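import Groth.Agent.Etbc.H226.NFDefs
import Mathlib.RingTheory.DedekindDomain.SInteger
import Mathlib.GroupTheory.Index
import Mathlib.NumberTheory.NumberField.Completion.FinitePlace

/-!
# Preliminaries for the Hasse norm theorem for cyclic extensions of prime degree

* group theoretic counting lemmas;
* the embedding `emb v : Kˣ →* K_vˣ` and the maps `toQ S N : Kˣ →* ∏_{v ∈ S} K_vˣ ⧸ N_v`.
-/

set_option autoImplicit false
universe u
open NumberField IsDedekindDomain Polynomial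

namespace Groth.Agent.Etbc.H224.Hasse0

open Groth.Agent.Etbc.H226.NFDefs

section group

theorem relIndex_le_of_zpow {G : Type*} [CommGroup G] (ℓ : ℕ) (hℓ : 0 < ℓ) (M U : Subgroup G) (c : G)
    (hc : c ∈ U) (hcl : c ^ ℓ ∈ M) (h : ∀ u ∈ U, ∃ i : ℤ, ∃ m ∈ M, u = c ^ i * m) :
    M.relIndex U ≤ ℓ ∧ M.relIndex U ≠ 0 := by
  have hf : Function.Surjective (fun i : Fin ℓ =>
      (QuotientGroup.mk (⟨c, hc⟩ ^ (i : ℕ)) : U ⧸ M.subgroupOf U)) := by
    intro q
    obtain ⟨u, rfl⟩ := QuotientGroup.mk_surjective q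
    obtain ⟨i, m, hm, hu⟩ := h u u.2
    have hi0 : 0 ≤ i % (ℓ : ℤ) := Int.emod_nonneg _ (by exact_mod_cast hℓ.ne')
    have hi1 : i % (ℓ : ℤ) < ℓ := Int.emod_lt_of_pos _ (by exact_mod_cast hℓ)
    obtain ⟨r, hr⟩ := Int.eq_ofNat_of_zero_le hi0
    refine ⟨⟨r, by omega⟩, ?_⟩
    rw [QuotientGroup.eq, Subgroup.mem_subgroupOf]
    have h1 : c ^ i = c ^ r * (c ^ ℓ) ^ (i / (ℓ : ℤ)) := by
      rw [← zpow_natCast c r, ← zpow_natCast c ℓ, ← zpow_mul, ← zpow_add, ← hr, Int.emod_add_mul_ediv]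
    have h2 : (((⟨c, hc⟩ : U) ^ r)⁻¹ * u : U) = (⟨(c ^ r)⁻¹ * u, U.mul_mem (U.inv_mem (U.pow_mem hc r)) u.2⟩ : U) := by
      apply Subtype.ext
      simp
    change (((⟨c, hc⟩ : U) ^ r)⁻¹ * u : U).1 ∈ M
    rw [h2]
    change (c ^ r)⁻¹ * (u : G) ∈ M
    rw [hu, h1, ← mul_assoc, ← mul_assoc, inv_mul_cancel, one_mul]
    exact M.mul_mem (M.zpow_mem hcl _) hm
  refine ⟨?_, ?_⟩
  · have := Nat.card_le_card_of_surjective _ hf
    rwa [Nat.card_fin] at this
  · have : Finite (U ⧸ M.subgroupOf U) := Finite.of_surjective _ hf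
    exact Subgroup.index_ne_zero_of_finite

/-- equality of a subgroup with a bigger one, by indices -/
theorem inf_eq_of_relIndex_le {G : Type*} [CommGroup G] (N M U : Subgroup G) (hNM : N ≤ M)
    (h0 : N.relIndex U ≠ 0) (h : N.relIndex U ≤ M.relIndex U) : ∀ x ∈ U, x ∈ M → x ∈ N := by
  have h1 : (N ⊓ U).relIndex (M ⊓ U) * (M ⊓ U).relIndex U = (N ⊓ U).relIndex U :=
    Subgroup.relIndex_mul_relIndex _ _ _ (inf_le_inf_right _ hNM) inf_le_right
  rw [Subgroup.inf_relIndex_right, Subgroup.inf_relIndex_right] at h1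
  have hM : M.relIndex U ≠ 0 := by
    intro h2
    rw [h2, mul_zero] at h1
    exact h0 h1.symm
  have h2 : (N ⊓ U).relIndex (M ⊓ U) = 1 := by
    have h3 : (N ⊓ U).relIndex (M ⊓ U) ≠ 0 := by
      intro h4
      rw [h4, zero_mul] at h1
      exact h0 h1.symm
    have h4 : (N ⊓ U).relIndex (M ⊓ U) * M.relIndex U ≤ 1 * M.relIndex U := by rw [h1, one_mul]; exact h
    have h5 := Nat.le_of_mul_le_mul_right h4 (Nat.pos_of_ne_zero hM)
    omega
  intro x hxU hxM
  exact (Subgroup.relIndex_eq_one.1 h2 ⟨hxM, hxU⟩).1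

/-- the relative index of a subgroup containing the `ℓ`-th powers of `U` -/
theorem relIndex_ne_zero_of_pow {G : Type*} [CommGroup G] (ℓ : ℕ) (N U : Subgroup G)
    (h : ∀ x ∈ U, x ^ ℓ ∈ N) (hU : (powMonoidHom ℓ : U →* U).range.index ≠ 0) :
    N.relIndex U ≠ 0 := by
  have h1 : (powMonoidHom ℓ : U →* U).range ≤ N.subgroupOf U := by
    rintro _ ⟨x, rfl⟩
    rw [Subgroup.mem_subgroupOf]
    exact h x x.2
  intro h2
  have h3 := Subgroup.index_dvd_of_le h1
  change N.relIndex U ∣ _ at h3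
  rw [h2, zero_dvd_iff] at h3
  exact hU h3

end group

variable {K : Type u} [Field K] [NumberField K]

/-- the embedding of the multiplicative group of `K` in that of the completion -/
noncomputable def emb (v : HeightOneSpectrum (𝓞 K)) : Kˣ →* (v.adicCompletion K)ˣ :=
  Units.map (algebraMap K (v.adicCompletion K) : K →* v.adicCompletion K)

theorem coe_emb (v : HeightOneSpectrum (𝓞 K)) (x : Kˣ) :
    ((emb v x : (v.adicCompletion K)ˣ) : v.adicCompletion K) = algebraMap K (v.adicCompletion K) (x : K) := rfl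

/-- a family of subgroups, one for each local field -/
abbrev Fam (K : Type u) [Field K] [NumberField K] :=
  ∀ v : HeightOneSpectrum (𝓞 K), Subgroup (v.adicCompletion K)ˣ

/-- the product of the quotients over `S` -/
def Q (S : Set (HeightOneSpectrum (𝓞 K))) (N : Fam K) : Type u :=
  ∀ v : S, (v.1.adicCompletion K)ˣ ⧸ N v.1

noncomputable instance (S : Set (HeightOneSpectrum (𝓞 K))) (N : Fam K) : CommGroup (Q S N) :=
  inferInstanceAs (CommGroup (∀ v : S, (v.1.adicCompletion K)ˣ ⧸ N v.1))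

/-- the diagonal map -/
noncomputable def toQ (S : Set (HeightOneSpectrum (𝓞 K))) (N : Fam K) : Kˣ →* Q S N where
  toFun x := fun v => (QuotientGroup.mk (emb v.1 x) : (v.1.adicCompletion K)ˣ ⧸ N v.1)
  map_one' := by
    funext v
    rw [map_one]
    rfl
  map_mul' x y := by
    funext v
    rw [map_mul]
    rfl

theorem toQ_apply (S : Set (HeightOneSpectrum (𝓞 K))) (N : Fam K) (x : Kˣ) (v : S) :
    toQ S N x v = (QuotientGroup.mk (emb v.1 x) : (v.1.adicCompletion K)ˣ ⧸ N v.1) := rfl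

theorem mem_ker_toQ (S : Set (HeightOneSpectrum (𝓞 K))) (N : Fam K) (x : Kˣ) :
    x ∈ (toQ S N).ker ↔ ∀ v ∈ S, emb v x ∈ N v := by
  rw [MonoidHom.mem_ker]
  constructor
  · intro h v hv
    have h1 := congrFun h ⟨v, hv⟩
    rw [toQ_apply] at h1
    exact (QuotientGroup.eq_one_iff _).1 h1
  · intro h
    funext v
    rw [toQ_apply]
    exact (QuotientGroup.eq_one_iff _).2 (h v.1 v.2)

theorem card_Q (S : Set (HeightOneSpectrum (𝓞 K))) (hS : S.Finite) (N : Fam K) :
    Nat.card (Q S N) = ∏ v ∈ hS.toFinset, (N v).index := by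
  have : Fintype S := hS.fintype
  change Nat.card (∀ v : S, (v.1.adicCompletion K)ˣ ⧸ N v.1) = _
  rw [Nat.card_pi, Finset.prod_subtype (hS.toFinset) (p := fun v => v ∈ S) (fun v => hS.mem_toFinset)]
  exact Finset.prod_congr rfl fun v _ => (Subgroup.index_eq_card _).symm

theorem map_eq_top (S : Set (HeightOneSpectrum (𝓞 K))) (N : Fam K) (U : Subgroup Kˣ)
    (h : ∀ x : (∀ v : HeightOneSpectrum (𝓞 K), (v.adicCompletion K)ˣ), ∃ u ∈ U, ∀ v ∈ S, ∃ n ∈ N v,
      emb v u = x v * n) : U.map (toQ S N) = ⊤ := by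
  classical
  rw [eq_top_iff]
  intro q _
  obtain ⟨u, hu, hx⟩ := h (fun v => if hv : v ∈ S then Quotient.out (q ⟨v, hv⟩) else 1)
  refine ⟨u, hu, ?_⟩
  funext v
  rw [toQ_apply]
  obtain ⟨n, hn, hun⟩ := hx v.1 v.2
  rw [dif_pos v.2] at hun
  have h1 : q v = (QuotientGroup.mk (Quotient.out (q v)) : (v.1.adicCompletion K)ˣ ⧸ N v.1) :=
    (Quotient.out_eq' (q v)).symm
  rw [h1, eq_comm, QuotientGroup.eq, hun, ← mul_assoc]
  change (Quotient.out (q v))⁻¹ * Quotient.out (q v) * n ∈ _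
  rw [inv_mul_cancel, one_mul]
  exact hn

theorem exists_of_map_eq_top (S : Set (HeightOneSpectrum (𝓞 K))) (N : Fam K) (U : Subgroup Kˣ)
    (h : U.map (toQ S N) = ⊤) (x : (∀ v : HeightOneSpectrum (𝓞 K), (v.adicCompletion K)ˣ)) :
    ∃ u ∈ U, ∀ v ∈ S, ∃ n ∈ N v, emb v u = x v * n := by
  have h1 : (fun v : S => (QuotientGroup.mk (x v.1) : (v.1.adicCompletion K)ˣ ⧸ N v.1)) ∈
      U.map (toQ S N) := by rw [h]; trivial
  obtain ⟨u, hu, hx⟩ := h1
  refine ⟨u, hu, fun v hv => ⟨(x v)⁻¹ * emb v u, ?_, by rw [mul_inv_cancel_left]⟩⟩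
  have h2 := congrFun hx ⟨v, hv⟩
  rw [toQ_apply, eq_comm, QuotientGroup.eq] at h2
  exact h2

theorem relIndex_ker_toQ (S : Set (HeightOneSpectrum (𝓞 K))) (N : Fam K) (U : Subgroup Kˣ) :
    (toQ S N).ker.relIndex U = Nat.card (U.map (toQ S N)) := Subgroup.relIndex_ker _ _

/-- if `N ≤ N'`, then the map of products of quotients -/
noncomputable def mapQ (S : Set (HeightOneSpectrum (𝓞 K))) (N N' : Fam K) (h : ∀ v, N v ≤ N' v) :
    Q S N →* Q S N' where
  toFun q := fun v => QuotientGroup.map (N v.1) (N' v.1) (MonoidHom.id _) (h v.1) (q v)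
  map_one' := by
    funext v
    exact map_one (QuotientGroup.map (N v.1) (N' v.1) (MonoidHom.id _) (h v.1))
  map_mul' x y := by
    funext v
    exact map_mul (QuotientGroup.map (N v.1) (N' v.1) (MonoidHom.id _) (h v.1)) (x v) (y v)

theorem mapQ_toQ (S : Set (HeightOneSpectrum (𝓞 K))) (N N' : Fam K) (h : ∀ v, N v ≤ N' v) :
    (mapQ S N N' h).comp (toQ S N) = toQ S N' := rfl

theorem mapQ_surjective (S : Set (HeightOneSpectrum (𝓞 K))) (N N' : Fam K) (h : ∀ v, N v ≤ N' v) :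
    Function.Surjective (mapQ S N N' h) := by
  intro q
  choose x hx using fun v : S => QuotientGroup.mk_surjective (q v)
  exact ⟨fun v => QuotientGroup.mk (x v), funext fun v => hx v⟩

theorem index_map_dvd (S : Set (HeightOneSpectrum (𝓞 K))) (N N' : Fam K) (h : ∀ v, N v ≤ N' v)
    (U : Subgroup Kˣ) : (U.map (toQ S N')).index ∣ (U.map (toQ S N)).index := by
  rw [← mapQ_toQ S N N' h, ← Subgroup.map_map]
  exact Subgroup.index_map_dvd _ (mapQ_surjective S N N' h)

end Groth.Agent.Etbc.H224.Hasse0
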