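import Groth.Agent.Etbc.H226.NFDefs
import Mathlib.FieldTheory.KummerExtension
import Mathlib.NumberTheory.NumberField.Basic

/-!
# The Kummer extension of prime degree of a number field
-/

set_option autoImplicit false
universe u
open NumberField IsDedekindDomain Polynomial

namespace Groth.Agent.Etbc.H224.KumField

open Groth.Agent.Etbc.H226.NFDefs

theorem exists_kummer (K : Type u) [Field K] [NumberField K] (ℓ : ℕ) [hℓ : Fact ℓ.Prime] {ζ : K}
    (hζ : IsPrimitiveRoot ζ ℓ) (c : Kˣ) (hc : ¬ ∃ x : Kˣ, x ^ ℓ = c) :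
    ∃ (L : Type u) (_ : Field L) (_ : NumberField L) (_ : Algebra K L) (_ : IsGalois K L),
      Module.finrank K L = ℓ ∧ normGroup ℓ (c : K) = (Units.map (Algebra.norm K : L →* K)).range ∧
      ∃ β : L, β ≠ 0 ∧ β ^ ℓ = algebraMap K L c ∧
        ∀ η : K, η ^ ℓ = 1 → ∃ σ : L ≃ₐ[K] L, σ β = algebraMap K L η * β := by
  have hirr : Irreducible (X ^ ℓ - C (c : K)) := X_pow_sub_C_irreducible_of_prime hℓ.out (by
    intro b hb
    have hb0 : b ≠ 0 := by
      rintro rfl
      rw [zero_pow hℓ.out.ne_zero] at hb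
      exact c.ne_zero hb.symm
    exact hc ⟨Units.mk0 b hb0, Units.ext (by simpa using hb)⟩)
  have : Fact (Irreducible (X ^ ℓ - C (c : K))) := ⟨hirr⟩
  let L := AdjoinRoot (X ^ ℓ - C (c : K))
  have hmon : (X ^ ℓ - C (c : K)).Monic := monic_X_pow_sub_C _ hℓ.out.ne_zero
  have hfin : FiniteDimensional K L := hmon.finite_adjoinRoot
  have hchar : CharZero L := charZero_of_injective_algebraMap (algebraMap K L).injective
  have hNF : NumberField L :=
    { to_charZero := hchar
      to_finiteDimensional := by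
        let _ : Algebra ℚ L := DivisionRing.toRatAlgebra
        have : IsScalarTower ℚ K L := inferInstance
        exact FiniteDimensional.trans ℚ K L }
  have hprim : (primitiveRoots ℓ K).Nonempty := ⟨ζ, (mem_primitiveRoots hℓ.out.pos).2 hζ⟩
  have hsplit := isSplittingField_AdjoinRoot_X_pow_sub_C hprim hirr
  have hgal : IsGalois K L := isGalois_of_isSplittingField_X_pow_sub_C hprim hirr L
  have hroot : (AdjoinRoot.root (X ^ ℓ - C (c : K)) : L) ^ ℓ = algebraMap K L c :=
    root_X_pow_sub_C_pow ℓ (c : K)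
  refine ⟨L, inferInstance, hNF, inferInstance, hgal, finrank_of_isSplittingField_X_pow_sub_C hprim hirr L,
    rfl, AdjoinRoot.root _, ?_, hroot, ?_⟩
  · intro h0
    rw [h0, zero_pow hℓ.out.ne_zero] at hroot
    exact c.ne_zero ((map_eq_zero (algebraMap K L)).1 hroot.symm)
  · intro η hη
    have : NeZero ℓ := ⟨hℓ.out.ne_zero⟩
    let η' : rootsOfUnity ℓ K := rootsOfUnity.mkOfPowEq η hη
    refine ⟨autAdjoinRootXPowSubC ℓ (c : K) η', ?_⟩
    rw [autAdjoinRootXPowSubC_root, Algebra.smul_def]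
    rfl

end Groth.Agent.Etbc.H224.KumField
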