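import Mathlib.NumberTheory.NumberField.Completion.FinitePlace
import Mathlib.NumberTheory.RamificationInertia.Valuation
import Mathlib.NumberTheory.RamificationInertia.Galois
import Mathlib.RingTheory.RootsOfUnity.Lemmas
import Mathlib.RingTheory.Polynomial.Cyclotomic.Basic
import Mathlib.FieldTheory.Galois.Basic

/-!
# Places in Kummer extensions of prime degree of number fields

`L/K` Galois of prime degree `ℓ`, `β ∈ L` with `β^ℓ = c ∈ K` and Galois conjugates `η β`.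

* `not_unique_of_pow`: if `c` is an `ℓ`-th power in `K_v`, there are several places above `v`;
* `valuation_eq_of_unit`: if `v ∤ ℓ` and `c` is a unit at `v`, then `L/K` is unramified above `v`.
-/

set_option autoImplicit false
open NumberField IsDedekindDomain

namespace Groth.Agent.Etbc.H224.KumPlaces

variable {K L : Type*} [Field K] [NumberField K] [Field L] [NumberField L] [Algebra K L]

section

variable [IsGalois K L]

/-- the automorphism of the ring of integers -/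
noncomputable abbrev res (σ : L ≃ₐ[K] L) : 𝓞 L ≃ₐ[𝓞 K] 𝓞 L := galRestrict (𝓞 K) K L (𝓞 L) σ

theorem coe_res (σ : L ≃ₐ[K] L) (x : 𝓞 L) : algebraMap (𝓞 L) L (res σ x) = σ (algebraMap (𝓞 L) L x) :=
  algebraMap_galRestrict_apply (𝓞 K) σ x

theorem comap_eq {v : HeightOneSpectrum (𝓞 K)} {w : HeightOneSpectrum (𝓞 L)}
    (hw : ∀ w' : HeightOneSpectrum (𝓞 L), w'.asIdeal.LiesOver v.asIdeal → w' = w)
    [hwv : w.asIdeal.LiesOver v.asIdeal] (τ : 𝓞 L ≃ₐ[𝓞 K] 𝓞 L) (x : 𝓞 L) :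
    τ x ∈ w.asIdeal ↔ x ∈ w.asIdeal := by
  have hp : (w.asIdeal.comap (τ : 𝓞 L →+* 𝓞 L)).IsPrime := Ideal.comap_isPrime _ _
  have hne : w.asIdeal.comap (τ : 𝓞 L →+* 𝓞 L) ≠ ⊥ := by
    obtain ⟨y, hy, hy0⟩ := Submodule.exists_mem_ne_zero_of_ne_bot w.ne_bot
    rw [Submodule.ne_bot_iff]
    refine ⟨τ.symm y, ?_, ?_⟩
    · change τ (τ.symm y) ∈ w.asIdeal
      rwa [τ.apply_symm_apply]
    · simpa using hy0
  have h1 := hw ⟨w.asIdeal.comap (τ : 𝓞 L →+* 𝓞 L), hp, hne⟩ ⟨by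
    ext r
    rw [Ideal.mem_comap]
    change _ ↔ τ (algebraMap _ _ r) ∈ w.asIdeal
    rw [τ.commutes, hwv.over, Ideal.mem_comap]⟩
  have h2 := congrArg HeightOneSpectrum.asIdeal h1
  change w.asIdeal.comap (τ : 𝓞 L →+* 𝓞 L) = w.asIdeal at h2
  conv_rhs => rw [← h2]
  rfl

theorem mem_pow {v : HeightOneSpectrum (𝓞 K)} {w : HeightOneSpectrum (𝓞 L)}
    (hw : ∀ w' : HeightOneSpectrum (𝓞 L), w'.asIdeal.LiesOver v.asIdeal → w' = w)
    [hwv : w.asIdeal.LiesOver v.asIdeal] (τ : 𝓞 L ≃ₐ[𝓞 K] 𝓞 L) (n : ℕ) {x : 𝓞 L}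
    (hx : x ∈ w.asIdeal ^ n) : τ x ∈ w.asIdeal ^ n := by
  have h1 : w.asIdeal.map (τ : 𝓞 L →+* 𝓞 L) ≤ w.asIdeal := by
    rw [Ideal.map_le_iff_le_comap]
    intro y hy
    exact (comap_eq hw τ y).2 hy
  have h2 : τ x ∈ (w.asIdeal ^ n).map (τ : 𝓞 L →+* 𝓞 L) := Ideal.mem_map_of_mem _ hx
  rw [Ideal.map_pow] at h2
  exact Ideal.pow_right_mono h1 n h2

theorem intValuation_le {v : HeightOneSpectrum (𝓞 K)} {w : HeightOneSpectrum (𝓞 L)}
    (hw : ∀ w' : HeightOneSpectrum (𝓞 L), w'.asIdeal.LiesOver v.asIdeal → w' = w)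
    [hwv : w.asIdeal.LiesOver v.asIdeal] (τ : 𝓞 L ≃ₐ[𝓞 K] 𝓞 L) (x : 𝓞 L) :
    w.intValuation (τ x) ≤ w.intValuation x := by
  by_cases hx : x = 0
  · rw [hx, map_zero]
  rw [w.intValuation_if_neg hx, w.intValuation_le_pow_iff_mem]
  exact mem_pow hw τ _ ((w.intValuation_le_pow_iff_mem _ _).1 (by rw [w.intValuation_if_neg hx]))

/-- If there is only one place `w` above `v`, its valuation is Galois invariant. -/
theorem valuation_aut {v : HeightOneSpectrum (𝓞 K)} {w : HeightOneSpectrum (𝓞 L)}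
    (hw : ∀ w' : HeightOneSpectrum (𝓞 L), w'.asIdeal.LiesOver v.asIdeal → w' = w)
    [hwv : w.asIdeal.LiesOver v.asIdeal] (σ : L ≃ₐ[K] L) (x : L) :
    w.valuation L (σ x) = w.valuation L x := by
  have hint : ∀ y : 𝓞 L, w.valuation L (σ (algebraMap (𝓞 L) L y)) =
      w.valuation L (algebraMap (𝓞 L) L y) := by
    intro y
    rw [← coe_res, w.valuation_of_algebraMap, w.valuation_of_algebraMap]
    apply le_antisymm (intValuation_le hw _ y)
    have h1 := intValuation_le hw (res σ).symm (res σ y)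
    rwa [(res σ).symm_apply_apply] at h1
  obtain ⟨a, b, -, rfl⟩ := IsFractionRing.div_surjective (A := 𝓞 L) x
  rw [map_div₀, map_div₀, map_div₀, hint, hint]

end

section

variable [IsGalois K L] (ℓ : ℕ) [hℓ : Fact ℓ.Prime]

/-- `x^ℓ - c` is the product of the conjugates of `x - β`. -/
theorem prod_sub {ζ : K} (hζ : IsPrimitiveRoot ζ ℓ) (β : L) (x : L) :
    x ^ ℓ - β ^ ℓ = ∏ η ∈ Polynomial.nthRootsFinset ℓ (1 : L), (x - η * β) :=
  (hζ.map_of_injective (algebraMap K L).injective).pow_sub_pow_eq_prod_sub_mul x β hℓ.out.pos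

theorem exists_aut {ζ : K} (hζ : IsPrimitiveRoot ζ ℓ) {β : L}
    (hβ : ∀ η : K, η ^ ℓ = 1 → ∃ σ : L ≃ₐ[K] L, σ β = algebraMap K L η * β) {η : L}
    (hη : η ∈ Polynomial.nthRootsFinset ℓ (1 : L)) : ∃ σ : L ≃ₐ[K] L, σ β = η * β := by
  have hη' := (Polynomial.mem_nthRootsFinset hℓ.out.pos (1 : L)).1 hη
  have : NeZero ℓ := ⟨hℓ.out.ne_zero⟩
  obtain ⟨i, -, hi⟩ := (hζ.map_of_injective (algebraMap K L).injective).eq_pow_of_pow_eq_one hη'
  obtain ⟨σ, hσ⟩ := hβ (ζ ^ i) (by rw [← pow_mul, mul_comm, pow_mul, hζ.pow_eq_one, one_pow])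
  exact ⟨σ, by rw [hσ, map_pow, hi]⟩

theorem valuation_pow {ζ : K} (hζ : IsPrimitiveRoot ζ ℓ) {β : L}
    (hβ : ∀ η : K, η ^ ℓ = 1 → ∃ σ : L ≃ₐ[K] L, σ β = algebraMap K L η * β)
    {v : HeightOneSpectrum (𝓞 K)} {w : HeightOneSpectrum (𝓞 L)}
    (hw : ∀ w' : HeightOneSpectrum (𝓞 L), w'.asIdeal.LiesOver v.asIdeal → w' = w)
    [hwv : w.asIdeal.LiesOver v.asIdeal] (x : K) :
    w.valuation L (algebraMap K L x ^ ℓ - β ^ ℓ) = w.valuation L (algebraMap K L x - β) ^ ℓ := by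
  rw [prod_sub ℓ hζ, map_prod, Finset.prod_congr rfl (g := fun _ => w.valuation L (algebraMap K L x - β)),
    Finset.prod_const, (hζ.map_of_injective (algebraMap K L).injective).card_nthRootsFinset]
  intro η hη
  obtain ⟨σ, hσ⟩ := exists_aut ℓ hζ hβ hη
  rw [← valuation_aut hw σ (algebraMap K L x - β), map_sub σ, σ.commutes, hσ]


theorem isOpen_lt (v : HeightOneSpectrum (𝓞 K)) (x₀ : v.adicCompletion K) :
    IsOpen {z : v.adicCompletion K | Valued.v z < Valued.v x₀} := by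
  convert! Valued.isOpen_ball (v.adicCompletion K) (Valued.v.restrict x₀) using 3
  rw [Valuation.restrict_lt_iff]

/-- If `c = β^ℓ` is an `ℓ`-th power in `K_v`, then there is more than one place above `v`. -/
theorem not_unique_of_pow {ζ : K} (hζ : IsPrimitiveRoot ζ ℓ) {β : L} (hβ0 : β ≠ 0)
    (hβ : ∀ η : K, η ^ ℓ = 1 → ∃ σ : L ≃ₐ[K] L, σ β = algebraMap K L η * β) {c : K}
    (hc : β ^ ℓ = algebraMap K L c) (v : HeightOneSpectrum (𝓞 K))
    (γ : v.adicCompletion K) (hγ : γ ^ ℓ = algebraMap K (v.adicCompletion K) c) :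
    ¬ ∃! w : HeightOneSpectrum (𝓞 L), w.asIdeal.LiesOver v.asIdeal := by
  rintro ⟨w, hwv, hw⟩
  have hw' : ∀ w' : HeightOneSpectrum (𝓞 L), w'.asIdeal.LiesOver v.asIdeal → w' = w := hw
  have hζ1 : ζ ≠ 1 := hζ.ne_one hℓ.out.one_lt
  obtain ⟨σ, hσ⟩ := hβ ζ hζ.pow_eq_one
  -- the quantity to be made small
  set ρ := w.valuation L (algebraMap K L ζ * β - β) with hρ
  have hρ0 : ρ ≠ 0 := by
    rw [hρ, Valuation.ne_zero_iff]
    have h1 : algebraMap K L ζ * β - β = algebraMap K L (ζ - 1) * β := by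
      rw [map_sub, map_one]; ring
    rw [h1]
    refine mul_ne_zero ?_ hβ0
    rw [map_ne_zero]
    exact sub_ne_zero.2 hζ1
  let δ := min (ρ ^ ℓ) 1
  have hδ0 : δ ≠ 0 := by
    have : 0 < δ := lt_min (zero_lt_iff.2 (pow_ne_zero _ hρ0)) one_pos
    exact this.ne'
  -- approximation
  obtain ⟨x, hx⟩ : ∃ x : K, v.valuation K (x ^ ℓ - c) < δ := by
    obtain ⟨d, hd⟩ := v.valuation_surjective K δ
    have hopen : IsOpen {y : v.adicCompletion K | Valued.v (y ^ ℓ - algebraMap K _ c) <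
        Valued.v (algebraMap K (v.adicCompletion K) d)} :=
      (isOpen_lt v (algebraMap K (v.adicCompletion K) d)).preimage
        ((continuous_pow ℓ).sub continuous_const)
    have hval : ∀ z : K, Valued.v (algebraMap K (v.adicCompletion K) z) = v.valuation K z :=
      fun z => v.valuedAdicCompletion_eq_valuation' z
    obtain ⟨x, hx⟩ := (v.denseRange_algebraMap K).exists_mem_open hopen ⟨γ, by
      change Valued.v (γ ^ ℓ - algebraMap K _ c) < Valued.v (algebraMap K (v.adicCompletion K) d)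
      rw [hγ, sub_self, map_zero, hval, hd]
      exact zero_lt_iff.2 hδ0⟩
    change Valued.v (algebraMap K (v.adicCompletion K) x ^ ℓ - algebraMap K _ c) <
      Valued.v (algebraMap K (v.adicCompletion K) d) at hx
    rw [← map_pow, ← map_sub, hval, hval, hd] at hx
    exact ⟨x, hx⟩
  have h1 : w.valuation L (algebraMap K L (x ^ ℓ - c)) < ρ ^ ℓ := by
    rw [← HeightOneSpectrum.valuation_liesOver L v w]
    have h2 : v.valuation K (x ^ ℓ - c) < 1 := hx.trans_le (min_le_right _ _)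
    have h3 : v.asIdeal.ramificationIdx' w.asIdeal ≠ 0 :=
      Ideal.IsDedekindDomain.ramificationIdx'_ne_zero_of_liesOver w.asIdeal v.ne_bot
    exact (pow_le_of_le_one zero_le h2.le h3).trans_lt (hx.trans_le (min_le_left _ _))
  rw [map_sub, map_pow, ← hc, valuation_pow ℓ hζ hβ hw'] at h1
  have h2 : w.valuation L (algebraMap K L x - β) < ρ := lt_of_pow_lt_pow_left₀ ℓ zero_le h1
  have h3 : w.valuation L (algebraMap K L x - algebraMap K L ζ * β) < ρ := by
    rw [← hσ, ← σ.commutes, ← map_sub, valuation_aut hw' σ]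
    exact h2
  have h4 : ρ < ρ := by
    calc ρ = w.valuation L ((algebraMap K L x - β) - (algebraMap K L x - algebraMap K L ζ * β)) := by
          rw [hρ]; congr 1; ring
      _ ≤ _ := Valuation.map_sub _ _ _
      _ < ρ := max_lt h2 h3
  exact lt_irrefl _ h4

/-- If `v ∤ ℓ` and `β^ℓ = c` is a unit at `v`, then `L/K` is unramified above `v`. -/
theorem ramificationIdx_eq_one {ζ : K} (hζ : IsPrimitiveRoot ζ ℓ) (hdeg : Module.finrank K L = ℓ) {β : L}
    (hβ : ∀ η : K, η ^ ℓ = 1 → ∃ σ : L ≃ₐ[K] L, σ β = algebraMap K L η * β) {c : K}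
    (hc : β ^ ℓ = algebraMap K L c) (v : HeightOneSpectrum (𝓞 K)) (hv : (ℓ : 𝓞 K) ∉ v.asIdeal)
    (hcv : v.valuation K c = 1) (w : HeightOneSpectrum (𝓞 L)) [hwv : w.asIdeal.LiesOver v.asIdeal] :
    v.asIdeal.ramificationIdx' w.asIdeal = 1 := by
  by_contra he
  have he' : w.asIdeal.ramificationIdx (𝓞 K) ≠ 1 := by
    rwa [← Ideal.ramificationIdx'_eq_ramificationIdx v.asIdeal w.asIdeal v.ne_bot]
  have hmax := v.isMaximal
  have hmaxw := w.isMaximal
  -- the fundamental identity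
  have hfund := Ideal.ncard_primesOver_mul_ramificationIdxIn_mul_inertiaDegIn v.asIdeal (𝓞 L)
    Gal(L/K)
  rw [Ideal.ramificationIdxIn_eq_ramificationIdx v.asIdeal w.asIdeal Gal(L/K),
    Ideal.inertiaDegIn_eq_inertiaDeg v.asIdeal w.asIdeal Gal(L/K), IsGalois.card_aut_eq_finrank, hdeg,
    mul_comm, mul_assoc] at hfund
  have he2 : w.asIdeal.ramificationIdx (𝓞 K) = ℓ :=
    ((Nat.dvd_prime hℓ.out).1 (Dvd.intro _ hfund)).resolve_left he'
  rw [he2] at hfund
  have h1 : w.asIdeal.inertiaDeg (𝓞 K) * (Ideal.primesOver v.asIdeal (𝓞 L)).ncard = 1 :=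
    Nat.eq_of_mul_eq_mul_left hℓ.out.pos (by rw [hfund, mul_one])
  have hf : w.asIdeal.inertiaDeg (𝓞 K) = 1 := Nat.eq_one_of_mul_eq_one_right h1
  have hg : (Ideal.primesOver v.asIdeal (𝓞 L)).ncard = 1 := Nat.eq_one_of_mul_eq_one_left h1
  -- uniqueness of `w`
  have hw : ∀ w' : HeightOneSpectrum (𝓞 L), w'.asIdeal.LiesOver v.asIdeal → w' = w := by
    intro w' hw'
    obtain ⟨P, hP⟩ := Set.ncard_eq_one.1 hg
    have h2 : w.asIdeal ∈ Ideal.primesOver v.asIdeal (𝓞 L) := ⟨w.isPrime, hwv⟩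
    have h3 : w'.asIdeal ∈ Ideal.primesOver v.asIdeal (𝓞 L) := ⟨w'.isPrime, hw'⟩
    rw [hP, Set.mem_singleton_iff] at h2 h3
    exact HeightOneSpectrum.ext (h3.trans h2.symm)
  -- `β` is a `w`-unit
  have hβw : w.valuation L β = 1 := by
    have h2 : w.valuation L β ^ ℓ = 1 := by
      rw [← map_pow, hc, ← HeightOneSpectrum.valuation_liesOver L v w, hcv, one_pow]
    rcases lt_trichotomy (w.valuation L β) 1 with h3 | h3 | h3
    · exact absurd h2 (pow_lt_one₀ zero_le h3 hℓ.out.ne_zero).ne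
    · exact h3
    · exact absurd h2 (one_lt_pow₀ h3 hℓ.out.ne_zero).ne'
  -- `β` is congruent to an element of `K`
  obtain ⟨r, hr⟩ : ∃ r : K, w.valuation L (β - algebraMap K L r) < 1 := by
    obtain ⟨y, hy⟩ := w.exists_valuation_sub_lt_of_integer (x := β) hβw.le 1
    rw [Units.val_one] at hy
    have hsurj : Function.Surjective (algebraMap (𝓞 K ⧸ v.asIdeal) (𝓞 L ⧸ w.asIdeal)) := by
      rw [← Ideal.inertiaDeg'_eq_inertiaDeg v.asIdeal w.asIdeal, Ideal.inertiaDeg'_algebraMap] at hf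
      let _ := Ideal.Quotient.field v.asIdeal
      exact (Module.Free.bijective_algebraMap_of_finrank_eq_one hf).2
    obtain ⟨r, hr⟩ := hsurj (Ideal.Quotient.mk _ y)
    obtain ⟨r, rfl⟩ := Ideal.Quotient.mk_surjective r
    rw [Ideal.Quotient.algebraMap_mk_of_liesOver, Ideal.Quotient.eq] at hr
    refine ⟨algebraMap (𝓞 K) K r, ?_⟩
    rw [← w.valuation_lt_one_iff_mem (K := L)] at hr
    have hr' : w.valuation L (algebraMap (𝓞 L) L (algebraMap (𝓞 K) (𝓞 L) r) -
          algebraMap (𝓞 L) L y) < 1 := by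
      rw [← map_sub]; exact hr
    have h2 : β - algebraMap K L (algebraMap (𝓞 K) K r) =
        -((algebraMap (𝓞 L) L y - β) + (algebraMap (𝓞 L) L (algebraMap (𝓞 K) (𝓞 L) r) -
          algebraMap (𝓞 L) L y)) := by
      rw [← IsScalarTower.algebraMap_apply (𝓞 K) K L, ← IsScalarTower.algebraMap_apply (𝓞 K) (𝓞 L) L]
      ring
    rw [h2, Valuation.map_neg]
    exact lt_of_le_of_lt (Valuation.map_add _ _ _) (max_lt hy hr')
  have hall : ∀ η ∈ Polynomial.nthRootsFinset ℓ (1 : L), w.valuation L (algebraMap K L r - η * β) < 1 := by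
    intro η hη
    obtain ⟨σ, hσ⟩ := exists_aut ℓ hζ hβ hη
    rw [← hσ, ← σ.commutes, ← map_sub σ, valuation_aut hw σ, Valuation.map_sub_swap]
    exact hr
  have hone : ∀ η ∈ Polynomial.nthRootsFinset ℓ (1 : L), w.valuation L (1 - η) < 1 := by
    intro η hη
    have h2 : w.valuation L ((1 - η) * β) < 1 := by
      have h3 : (1 - η) * β = (algebraMap K L r - η * β) - (algebraMap K L r - 1 * β) := by ring
      rw [h3]
      refine lt_of_le_of_lt (Valuation.map_sub _ _ _) (max_lt (hall η hη) (hall 1 ?_))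
      rw [Polynomial.mem_nthRootsFinset hℓ.out.pos, one_pow]
    rwa [map_mul, hβw, mul_one] at h2
  -- hence `ℓ` is divisible by `w`
  have hlw : w.valuation L (ℓ : L) < 1 := by
    obtain ⟨n, hn⟩ : ∃ n, ℓ = n + 1 := ⟨ℓ - 1, by have := hℓ.out.pos; omega⟩
    have hζL := hζ.map_of_injective (algebraMap K L).injective
    have h2 : ∏ k ∈ Finset.range n, (1 - algebraMap K L ζ ^ (k + 1)) = ((n : L) + 1) :=
      IsPrimitiveRoot.prod_one_sub_pow_eq_order (by rw [← hn]; exact hζL)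
    have h3 : (ℓ : L) = (n : L) + 1 := by rw [hn]; push_cast; rfl
    rw [h3, ← h2, map_prod]
    have h4 : ∀ k, w.valuation L (1 - algebraMap K L ζ ^ (k + 1)) < 1 := fun k =>
      hone _ ((Polynomial.mem_nthRootsFinset hℓ.out.pos _).2 (by
        rw [← pow_mul, mul_comm, pow_mul, hζL.pow_eq_one, one_pow]))
    have hn1 : 0 < n := by have := hℓ.out.one_lt; omega
    have h5 : ∀ m : ℕ, ∏ k ∈ Finset.range (m + 1), w.valuation L (1 - algebraMap K L ζ ^ (k + 1)) < 1 := by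
      intro m
      induction m with
      | zero => rw [Finset.prod_range_one]; exact h4 0
      | succ m ih =>
        rw [Finset.prod_range_succ]
        exact lt_of_le_of_lt (mul_le_mul' ih.le le_rfl) (by rw [one_mul]; exact h4 _)
    obtain ⟨m, rfl⟩ : ∃ m, n = m + 1 := ⟨n - 1, by omega⟩
    exact h5 m
  apply hv
  have h5 : (ℓ : 𝓞 L) ∈ w.asIdeal := by
    rw [← w.valuation_lt_one_iff_mem (K := L)]
    have h6 : algebraMap (𝓞 L) L (ℓ : 𝓞 L) = (ℓ : L) := map_natCast _ _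
    change w.valuation L (algebraMap (𝓞 L) L (ℓ : 𝓞 L)) < 1
    rw [h6]
    exact hlw
  rw [hwv.over, Ideal.mem_comap, map_natCast]
  exact h5

end

end Groth.Agent.Etbc.H224.KumPlaces
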