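import Mathlib.RingTheory.Henselian
import Mathlib.RingTheory.LocalRing.ResidueField.Basic
import Mathlib.RingTheory.IntegralDomain
import Mathlib.Data.Int.GCD
import Mathlib.RingTheory.Int.Basic
import Mathlib.Algebra.Polynomial.Derivative

/-!
# Units of henselian local rings with finite residue field modulo `ℓ`-th powers, `ℓ` invertible
-/

set_option autoImplicit false
open Polynomial IsLocalRing

namespace Groth.Agent.Etbc.H224.LocUnit

/-- In a cyclic group the quotient by `ℓ`-th powers is generated by any element which is not an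
`ℓ`-th power. -/
theorem cyclic_pow {G : Type*} [CommGroup G] [IsCyclic G] (ℓ : ℕ) [hℓ : Fact ℓ.Prime] (c : G)
    (hc : ¬ ∃ x : G, x ^ ℓ = c) (u : G) : ∃ (i : ℤ) (x : G), u = c ^ i * x ^ ℓ := by
  obtain ⟨g, hg⟩ := IsCyclic.exists_generator (α := G)
  obtain ⟨a, rfl⟩ := hg c
  obtain ⟨b, rfl⟩ := hg u
  have ha : ¬ (ℓ : ℤ) ∣ a := by
    rintro ⟨t, rfl⟩
    exact hc ⟨g ^ t, by
      change (g ^ t) ^ ℓ = g ^ ((ℓ : ℤ) * t)
      rw [← zpow_natCast, ← zpow_mul, mul_comm]⟩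
  have hcop : IsCoprime a (ℓ : ℤ) := by
    have h1 : Prime (ℓ : ℤ) := Nat.prime_iff_prime_int.1 hℓ.out
    exact ((Prime.coprime_iff_not_dvd h1).2 ha).symm
  obtain ⟨r, s, hrs⟩ := hcop
  refine ⟨r * b, g ^ (s * b), ?_⟩
  change g ^ b = (g ^ a) ^ (r * b) * (g ^ (s * b)) ^ ℓ
  rw [← zpow_natCast, ← zpow_mul, ← zpow_mul, ← zpow_add]
  congr 1
  calc b = (r * a + s * ℓ) * b := by rw [hrs, one_mul]
    _ = _ := by ring

variable {R : Type*} [CommRing R] [HenselianLocalRing R]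

/-- principal units are `ℓ`-th powers -/
theorem exists_pow_of_residue_eq_one (ℓ : ℕ) [hℓ : Fact ℓ.Prime] (hl : IsUnit (ℓ : R)) (u : Rˣ)
    (hu : residue R u = 1) : ∃ x : Rˣ, x ^ ℓ = u := by
  have h1 : (X ^ ℓ - C (u : R)).Monic := monic_X_pow_sub_C _ hℓ.out.ne_zero
  obtain ⟨x, hx, hx1⟩ := HenselianLocalRing.is_henselian (X ^ ℓ - C (u : R)) h1 1 (by
    have h2 : residue R (1 - (u : R)) = 0 := by rw [map_sub, map_one, hu, sub_self]
    have h3 : eval 1 (X ^ ℓ - C (u : R)) = 1 - (u : R) := by simp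
    rw [h3]
    exact (residue_eq_zero_iff _).1 h2) (by
    have h2 : eval 1 (derivative (X ^ ℓ - C (u : R))) = (ℓ : R) := by
      rw [derivative_sub, derivative_C, sub_zero, derivative_X_pow]
      simp
    rw [h2]
    exact hl)
  have hxu : x ^ ℓ = u := by
    have : eval x (X ^ ℓ - C (u : R)) = 0 := hx
    simpa [sub_eq_zero] using this
  have hunit : IsUnit x := isUnit_of_pow_eq_one_aux hxu
  exact ⟨hunit.unit, Units.ext (by simpa using hxu)⟩
where isUnit_of_pow_eq_one_aux {x : R} {u : Rˣ} {ℓ : ℕ} [hℓ : Fact ℓ.Prime] (h : x ^ ℓ = u) : IsUnit x :=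
  (isUnit_pow_iff hℓ.out.ne_zero).1 (h ▸ u.isUnit)

theorem exists_zpow_mul_pow [Finite (ResidueField R)] (ℓ : ℕ) [hℓ : Fact ℓ.Prime] (hl : IsUnit (ℓ : R))
    (c : Rˣ) (hc : ¬ ∃ x : Rˣ, x ^ ℓ = c) (u : Rˣ) : ∃ (i : ℤ) (x : Rˣ), u = c ^ i * x ^ ℓ := by
  let π : Rˣ →* (ResidueField R)ˣ := Units.map (residue R).toMonoidHom
  have hsurj : Function.Surjective π := by
    intro y
    obtain ⟨z, hz⟩ := residue_surjective (R := R) (y : ResidueField R)
    have hz' : IsUnit z := by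
      rw [← residue_ne_zero_iff_isUnit, hz]
      exact y.ne_zero
    exact ⟨hz'.unit, Units.ext hz⟩
  have hker : ∀ y : Rˣ, π y = 1 → ∃ x : Rˣ, x ^ ℓ = y := fun y hy =>
    exists_pow_of_residue_eq_one ℓ hl y (congrArg Units.val hy)
  have hcyc : IsCyclic (ResidueField R)ˣ := inferInstance
  obtain ⟨i, x, hx⟩ := cyclic_pow ℓ (π c) (by
    rintro ⟨x, hx⟩
    obtain ⟨y, rfl⟩ := hsurj x
    obtain ⟨z, hz⟩ := hker (c / y ^ ℓ) (by rw [map_div, map_pow, hx, div_self'])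
    exact hc ⟨z * y, by rw [mul_pow, hz, div_mul_cancel]⟩) (π u)
  obtain ⟨y, rfl⟩ := hsurj x
  obtain ⟨z, hz⟩ := hker (u / (c ^ i * y ^ ℓ)) (by
    rw [map_div, map_mul, map_zpow, map_pow, hx, div_self'])
  exact ⟨i, y * z, by rw [mul_pow, hz, ← mul_assoc, mul_div_cancel]⟩

end Groth.Agent.Etbc.H224.LocUnit
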