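import Groth.Agent.Etbc.H224.Inputs2
import Groth.Agent.Etbc.H224.KumField
import Groth.Agent.Etbc.H224.KumPlaces
import Groth.Agent.Etbc.H224.LocUnit

/-!
# The Hasse norm theorem for cyclic extensions of prime degree, I

* `first_ineq`: `(U_S : U_S ∩ N Lˣ) * ℓ ≤ ∏_{v ∈ S} (K_vˣ : N_v)` for `L = K(c^{1/ℓ})`;
* `not_surj`: the `S`-units do not surject on `∏_{v ∈ S} K_vˣ / N_v`;
* `D2a`: an element which is an `ℓ`-th power in almost all completions is an `ℓ`-th power.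
-/

set_option autoImplicit false
universe u
open NumberField IsDedekindDomain Polynomial

namespace Groth.Agent.Etbc.H224.Hasse1

open Groth.Agent.Etbc.H226.NFDefs Groth.Agent.Etbc.H224.Hasse0 Groth.Agent.Etbc.H224.Inputs

variable {K : Type u} [Field K] [NumberField K] (ℓ : ℕ) [hℓ : Fact ℓ.Prime]

theorem clTriv_mono {S S' : Set (HeightOneSpectrum (𝓞 K))} (h : S ⊆ S') (hc : ClTriv S) : ClTriv S' := by
  intro v hv
  obtain ⟨π, h1, h2⟩ := hc v (fun h' => hv (h h'))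
  exact ⟨π, h1, fun v' hv' hne => h2 v' (fun h' => hv' (h h')) hne⟩

theorem mem_unit_iff (S : Set (HeightOneSpectrum (𝓞 K))) (x : Kˣ) :
    x ∈ S.unit K ↔ ∀ v ∉ S, v.valuation K (x : K) = 1 := Iff.rfl

theorem unit_mono {S S' : Set (HeightOneSpectrum (𝓞 K))} (h : S ⊆ S') : S.unit K ≤ S'.unit K :=
  fun _ hx v hv => hx v (fun h' => hv (h h'))

theorem mem_unit_of_pow (S : Set (HeightOneSpectrum (𝓞 K))) (x : Kˣ) (h : x ^ ℓ ∈ S.unit K) : x ∈ S.unit K := by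
  intro v hv
  have h1 := h v hv
  rw [Units.val_pow_eq_pow_val, map_pow] at h1
  exact (pow_eq_one_iff.1 h1).resolve_right hℓ.out.ne_zero

/-- the places dividing `ℓ` -/
theorem finite_above : {v : HeightOneSpectrum (𝓞 K) | (ℓ : 𝓞 K) ∈ v.asIdeal}.Finite := by
  have h1 : (Ideal.span {(ℓ : 𝓞 K)}) ≠ ⊥ := by
    rw [Ne, Ideal.span_singleton_eq_bot]
    exact_mod_cast hℓ.out.ne_zero
  refine (Ideal.finite_factors h1).subset fun v hv => ?_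
  exact Ideal.dvd_iff_le.2 ((Ideal.span_singleton_le_iff_mem _).2 hv)

theorem finite_supp (x : Kˣ) : {v : HeightOneSpectrum (𝓞 K) | v.valuation K (x : K) ≠ 1}.Finite :=
  Groth.Agent.Etbc.H226.SUnits.support_finite _

/-- the number of places in `S` at which `c` is not an `ℓ`-th power -/
noncomputable def np (c : Kˣ) (S : Set (HeightOneSpectrum (𝓞 K))) : ℕ :=
  {v ∈ S | ¬ ∃ x : v.adicCompletion K, x ^ ℓ = algebraMap K (v.adicCompletion K) (c : K)}.ncard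

theorem card_Q_NG' (hζ : ∃ ζ : K, IsPrimitiveRoot ζ ℓ) (c : Kˣ) (S : Set (HeightOneSpectrum (𝓞 K)))
    (hS : S.Finite) : Nat.card (Q S (NG ℓ c)) = ℓ ^ np ℓ c S := card_Q_NG ℓ hζ c S hS

theorem relIndex_normGroup_ne_zero [IsTotallyComplex K] (hζ : ∃ ζ : K, IsPrimitiveRoot ζ ℓ) (c : Kˣ)
    (S : Set (HeightOneSpectrum (𝓞 K))) (hS : S.Finite) :
    (normGroup ℓ (c : K)).relIndex (S.unit K) ≠ 0 := by
  refine relIndex_ne_zero_of_pow ℓ _ _ (fun x _ => ?_) ?_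
  · exact Groth.Agent.Etbc.H214.NormGroup.C3pow hℓ.out.ne_zero _ x
  · rw [B1 K ℓ hζ S hS]
    exact pow_ne_zero _ hℓ.out.ne_zero

/-- the first inequality -/
theorem first_ineq [IsTotallyComplex K] (hζ : ∃ ζ : K, IsPrimitiveRoot ζ ℓ) (c : Kˣ)
    (hc : ¬ ∃ x : Kˣ, x ^ ℓ = c) (S : Set (HeightOneSpectrum (𝓞 K))) (hS : S.Finite) (hcl : ClTriv S)
    (hSl : ∀ v : HeightOneSpectrum (𝓞 K), (ℓ : 𝓞 K) ∈ v.asIdeal → v ∈ S) (hcS : c ∈ S.unit K) :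
    (normGroup ℓ (c : K)).relIndex (S.unit K) * ℓ ≤ ℓ ^ np ℓ c S := by
  obtain ⟨ζ, hζ'⟩ := hζ
  obtain ⟨L, _, _, _, _, hdeg, hN, β, hβ0, hβ, hconj⟩ := Groth.Agent.Etbc.H224.KumField.exists_kummer K ℓ hζ' c hc
  have h1 := Groth.Agent.Etbc.H226.D1.D1 K L ℓ ⟨ζ, hζ'⟩ hdeg S hS hcl (fun v hv w hw x => by
    have h2 := Groth.Agent.Etbc.H224.KumPlaces.ramificationIdx_eq_one ℓ hζ' hdeg hconj hβ v
      (fun h => hv (hSl v h)) (hcS v hv) w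
    have h3 := HeightOneSpectrum.valuation_liesOver L v w x
    rw [h2, pow_one] at h3
    exact h3.symm)
  rw [Subgroup.inf_relIndex_right, ← hN] at h1
  refine h1.trans (Nat.pow_le_pow_right hℓ.out.pos (Set.ncard_le_ncard ?_ (hS.subset (Set.sep_subset _ _))))
  rintro v ⟨hvS, hv⟩
  refine ⟨hvS, ?_⟩
  rintro ⟨γ, hγ⟩
  exact Groth.Agent.Etbc.H224.KumPlaces.not_unique_of_pow ℓ hζ' hβ0 hconj hβ v γ hγ hv

theorem normGroup_le_ker (c : Kˣ) (S : Set (HeightOneSpectrum (𝓞 K))) :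
    normGroup ℓ (c : K) ≤ (toQ S (NG ℓ c)).ker := by
  intro a ha
  rw [mem_ker_toQ]
  exact fun v _ => emb_mem_NG ℓ c a ha v

/-- the `S`-units do not surject on the local norm residue groups -/
theorem not_surj [IsTotallyComplex K] (hζ : ∃ ζ : K, IsPrimitiveRoot ζ ℓ) (c : Kˣ)
    (hc : ¬ ∃ x : Kˣ, x ^ ℓ = c) (S : Set (HeightOneSpectrum (𝓞 K))) (hS : S.Finite) (hcl : ClTriv S)
    (hSl : ∀ v : HeightOneSpectrum (𝓞 K), (ℓ : 𝓞 K) ∈ v.asIdeal → v ∈ S) (hcS : c ∈ S.unit K) :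
    (S.unit K).map (toQ S (NG ℓ c)) ≠ ⊤ := by
  intro h
  have h1 := first_ineq ℓ hζ c hc S hS hcl hSl hcS
  have h2 := relIndex_ker_toQ S (NG ℓ c) (S.unit K)
  rw [h, Subgroup.card_top, card_Q_NG' ℓ hζ c S hS] at h2
  have h3 := Subgroup.relIndex_le_of_le_left (normGroup_le_ker ℓ c S)
    (relIndex_normGroup_ne_zero ℓ hζ c S hS)
  rw [h2] at h3
  have h4 : ℓ ^ np ℓ c S * ℓ ≤ ℓ ^ np ℓ c S := (Nat.mul_le_mul_right ℓ h3).trans h1
  have h5 : 0 < ℓ ^ np ℓ c S := Nat.pow_pos hℓ.out.pos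
  have h6 := hℓ.out.two_le
  nlinarith

theorem D2a [IsTotallyComplex K] (hζ : ∃ ζ : K, IsPrimitiveRoot ζ ℓ) (c : Kˣ) (hc : ¬ ∃ x : Kˣ, x ^ ℓ = c)
    (S : Set (HeightOneSpectrum (𝓞 K))) (hS : S.Finite) :
    ∃ v ∉ S, ¬ ∃ x : v.adicCompletion K, x ^ ℓ = algebraMap K _ (c : K) := by
  by_contra hcon
  push Not at hcon
  obtain ⟨S₁, hSS₁, hS₁, hcl⟩ := B3 K (S ∪ {v : HeightOneSpectrum (𝓞 K) | (ℓ : 𝓞 K) ∈ v.asIdeal} ∪
    {v : HeightOneSpectrum (𝓞 K) | v.valuation K (c : K) ≠ 1})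
    ((hS.union (finite_above ℓ)).union (finite_supp c))
  have hfin : Finite (Q S₁ (NG ℓ c)) := by
    have := card_Q_NG' ℓ hζ c S₁ hS₁
    exact Nat.finite_of_card_ne_zero (by rw [this]; exact pow_ne_zero _ hℓ.out.ne_zero)
  have hsurj : ∀ q : Q S₁ (NG ℓ c), ∃ y : Kˣ, toQ S₁ (NG ℓ c) y = q := by
    have h1 : (⊤ : Subgroup Kˣ).map (toQ S₁ (NG ℓ c)) = ⊤ := by
      refine map_eq_top _ _ _ fun x => ?_
      obtain ⟨y, hy⟩ := Groth.Agent.Etbc.H224.Inputs2.WA K ℓ S₁ hS₁ x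
      refine ⟨y, trivial, fun v hv => ?_⟩
      obtain ⟨z, hz⟩ := hy v hv
      exact ⟨z ^ ℓ, PG_le_NG ℓ c v ⟨z, rfl⟩, hz⟩
    intro q
    have h2 : q ∈ (⊤ : Subgroup Kˣ).map (toQ S₁ (NG ℓ c)) := by rw [h1]; trivial
    obtain ⟨y, -, hy⟩ := h2
    exact ⟨y, hy⟩
  choose y hy using hsurj
  let S₂ : Set (HeightOneSpectrum (𝓞 K)) := S₁ ∪ ⋃ q, {v | v.valuation K (y q : K) ≠ 1}
  have hS₂ : S₂.Finite := hS₁.union (Set.finite_iUnion fun q => finite_supp (y q))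
  have h12 : S₁ ⊆ S₂ := Set.subset_union_left
  refine not_surj ℓ hζ c hc S₂ hS₂ (clTriv_mono h12 hcl)
    (fun v hv => h12 (hSS₁ (Or.inl (Or.inr hv)))) (fun v hv => ?_) ?_
  · by_contra h
    exact hv (h12 (hSS₁ (Or.inr h)))
  · refine map_eq_top _ _ _ fun x => ?_
    let q : Q S₁ (NG ℓ c) := fun v => QuotientGroup.mk (x v.1)
    refine ⟨y q, fun v hv => ?_, fun v hv => ?_⟩
    · by_contra h
      exact hv (Or.inr (Set.mem_iUnion.2 ⟨q, h⟩))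
    · by_cases hv1 : v ∈ S₁
      · refine ⟨(x v)⁻¹ * emb v (y q), ?_, by rw [mul_inv_cancel_left]⟩
        have h2 := congrFun (hy q) ⟨v, hv1⟩
        rw [toQ_apply, eq_comm] at h2
        exact QuotientGroup.eq.1 h2
      · refine ⟨(x v)⁻¹ * emb v (y q), ?_, by rw [mul_inv_cancel_left]⟩
        rw [NG_eq_top ℓ hζ c v (hcon v (fun h => hv1 (hSS₁ (Or.inl (Or.inl h)))))]
        trivial

end Groth.Agent.Etbc.H224.Hasse1
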