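import Groth.Agent.Etbc.H224.Hasse1

/-!
# The Hasse norm theorem for cyclic extensions of prime degree, II

* `kummer_pow`: an element of `K` which is an `ℓ`-th power in `K(b^{1/ℓ})` is `b ^ i * x ^ ℓ`;
* `aux_prime`: auxiliary places at which `b` is an `ℓ`-th power and `c` is not;
* `exists_T`: sets of auxiliary places.
-/

set_option autoImplicit false
universe u
open NumberField IsDedekindDomain Polynomial

namespace Groth.Agent.Etbc.H224.Hasse2

open Groth.Agent.Etbc.H226.NFDefs Groth.Agent.Etbc.H224.Hasse0 Groth.Agent.Etbc.H224.Inputs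
open Groth.Agent.Etbc.H224.Hasse1 Groth.Agent.Etbc.H226.Places

variable {K : Type u} [Field K] [NumberField K] (ℓ : ℕ) [hℓ : Fact ℓ.Prime]

theorem kummer_pow {L : Type*} [Field L] [NumberField L] [Algebra K L] [IsGalois K L]
    (hdeg : Module.finrank K L = ℓ) {ζ : K} (hζ : IsPrimitiveRoot ζ ℓ) {b c : Kˣ} {β : L} (hβ0 : β ≠ 0)
    (hβ : β ^ ℓ = algebraMap K L b) (hconj : ∀ η : K, η ^ ℓ = 1 → ∃ σ : L ≃ₐ[K] L, σ β = algebraMap K L η * β)
    {γ : L} (hγ : γ ^ ℓ = algebraMap K L c) : ∃ (i : ℤ) (x : Kˣ), c = b ^ i * x ^ ℓ := by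
  have hγ0 : γ ≠ 0 := by
    rintro rfl
    rw [zero_pow hℓ.out.ne_zero] at hγ
    exact c.ne_zero ((map_eq_zero _).1 hγ.symm)
  obtain ⟨σ, hσ⟩ := hconj ζ hζ.pow_eq_one
  have hσ1 : σ ≠ 1 := by
    rintro rfl
    have h1 : β = algebraMap K L ζ * β := hσ
    have h2 : algebraMap K L ζ = 1 := by
      have h3 : 1 * β = algebraMap K L ζ * β := by rw [one_mul]; exact h1
      exact (mul_right_cancel₀ hβ0 h3).symm
    rw [map_eq_one_iff _ (algebraMap K L).injective] at h2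
    exact hζ.ne_one hℓ.out.one_lt h2
  have hcard : Nat.card Gal(L/K) = ℓ := by rw [IsGalois.card_aut_eq_finrank, hdeg]
  have hgen : ∀ τ : Gal(L/K), τ ∈ Subgroup.zpowers σ := fun τ => mem_zpowers_of_prime_card hcard hσ1
  have hη : (σ γ * γ⁻¹) ^ ℓ = 1 := by
    rw [mul_pow, inv_pow, ← map_pow, hγ, AlgEquiv.commutes, mul_inv_cancel₀]
    rw [← hγ]
    exact pow_ne_zero _ hγ0
  have : NeZero ℓ := ⟨hℓ.out.ne_zero⟩
  obtain ⟨j, -, hj⟩ := (hζ.map_of_injective (algebraMap K L).injective).eq_pow_of_pow_eq_one hη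
  have hσγ : σ γ = algebraMap K L ζ ^ j * γ := by
    rw [hj, mul_assoc, inv_mul_cancel₀ hγ0, mul_one]
  have hζ0 : algebraMap K L ζ ≠ 0 := by
    rw [Ne, map_eq_zero]
    exact hζ.ne_zero hℓ.out.ne_zero
  have hfix : σ (γ * (β ^ j)⁻¹) = γ * (β ^ j)⁻¹ := by
    rw [map_mul, map_inv₀, map_pow, hσ, hσγ, mul_pow]
    field_simp
  obtain ⟨x, hx⟩ := Groth.Agent.Etbc.H226.D1.mem_range_of_fixed hgen hfix
  have hx0 : x ≠ 0 := by
    rintro rfl
    rw [map_zero] at hx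
    exact mul_ne_zero hγ0 (inv_ne_zero (pow_ne_zero _ hβ0)) hx.symm
  refine ⟨j, Units.mk0 x hx0, Units.ext ?_⟩
  apply (algebraMap K L).injective
  have h4 : γ = algebraMap K L x * β ^ j := by
    rw [hx, mul_assoc, inv_mul_cancel₀ (pow_ne_zero _ hβ0), mul_one]
  rw [← hγ, h4, mul_pow, ← pow_mul, mul_comm j ℓ, pow_mul, hβ, zpow_natCast, Units.val_mul,
    Units.val_pow_eq_pow_val, Units.val_pow_eq_pow_val, Units.val_mk0, map_mul, map_pow, map_pow, mul_comm]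

/-- `O_v`-units -/
theorem exists_unit (v : HeightOneSpectrum (𝓞 K)) (y : (v.adicCompletion K)ˣ)
    (h : Valued.v (y : v.adicCompletion K) = 1) : ∃ u : (v.adicCompletionIntegers K)ˣ,
      (((u : v.adicCompletionIntegers K) : v.adicCompletion K)) = y := by
  let a : v.adicCompletionIntegers K := ⟨(y : v.adicCompletion K), h.le⟩
  obtain ⟨u, hu⟩ := (HeightOneSpectrum.adicCompletionIntegers.isUnit_iff_valued_eq_one (a := a)).2 h
  exact ⟨u, by rw [hu]⟩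

theorem valued_emb (v : HeightOneSpectrum (𝓞 K)) (x : Kˣ) :
    Valued.v ((emb v x : (v.adicCompletion K)ˣ) : v.adicCompletion K) = v.valuation K (x : K) :=
  HeightOneSpectrum.valuedAdicCompletion_eq_valuation' v (x : K)

theorem isUnit_natCast (v : HeightOneSpectrum (𝓞 K)) (hv : (ℓ : 𝓞 K) ∉ v.asIdeal) :
    IsUnit ((ℓ : ℕ) : v.adicCompletionIntegers K) := by
  rw [HeightOneSpectrum.adicCompletionIntegers.isUnit_iff_valued_eq_one]
  have h1 : v.valuation K (algebraMap (𝓞 K) K ((ℓ : ℕ) : 𝓞 K)) = 1 :=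
    (HeightOneSpectrum.valuation_eq_one_iff_notMem v).2 hv
  rw [map_natCast] at h1
  rw [← h1, ← HeightOneSpectrum.valuedAdicCompletion_eq_valuation']
  congr 1
  change _ = algebraMap K (v.adicCompletion K) ((ℓ : ℕ) : K)
  rw [map_natCast]
  rfl

/-- local units modulo `ℓ`-th powers are cyclic -/
theorem unit_zpow (v : HeightOneSpectrum (𝓞 K)) (hv : (ℓ : 𝓞 K) ∉ v.asIdeal) (c : (v.adicCompletion K)ˣ)
    (hc1 : Valued.v (c : v.adicCompletion K) = 1) (hc : ¬ ∃ x : (v.adicCompletion K)ˣ, x ^ ℓ = c)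
    (y : (v.adicCompletion K)ˣ) (hy : Valued.v (y : v.adicCompletion K) = 1) :
    ∃ (i : ℤ) (z : (v.adicCompletion K)ˣ), y = c ^ i * z ^ ℓ := by
  obtain ⟨c', hc'⟩ := exists_unit v c hc1
  obtain ⟨y', hy'⟩ := exists_unit v y hy
  let ι : (v.adicCompletionIntegers K)ˣ →* (v.adicCompletion K)ˣ :=
    Units.map ((algebraMap (v.adicCompletionIntegers K) (v.adicCompletion K)) :
      v.adicCompletionIntegers K →* v.adicCompletion K)
  have h1 : ι c' = c := Units.ext hc'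
  have h2 : ι y' = y := Units.ext hy'
  obtain ⟨i, z, hz⟩ := Groth.Agent.Etbc.H224.LocUnit.exists_zpow_mul_pow ℓ (isUnit_natCast ℓ v hv) c' (by
    rintro ⟨x, hx⟩
    exact hc ⟨ι x, by rw [← map_pow, hx, h1]⟩) y'
  refine ⟨i, ι z, ?_⟩
  rw [← h2, hz, map_mul, map_zpow, map_pow, h1]

theorem pow_unit_iff {k : Type*} [Field k] (c : kˣ) : (∃ x : k, x ^ ℓ = c) ↔ ∃ x : kˣ, x ^ ℓ = c := by
  constructor
  · rintro ⟨x, hx⟩
    have hx0 : x ≠ 0 := by
      rintro rfl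
      rw [zero_pow hℓ.out.ne_zero] at hx
      exact c.ne_zero hx.symm
    exact ⟨Units.mk0 x hx0, Units.ext (by simpa using hx)⟩
  · rintro ⟨x, hx⟩
    exact ⟨x, by rw [← hx, Units.val_pow_eq_pow_val]⟩

theorem aux_prime [IsTotallyComplex K] (hζ : ∃ ζ : K, IsPrimitiveRoot ζ ℓ) (b : Kˣ)
    (hb : ¬ ∃ x : Kˣ, x ^ ℓ = b) (c : Kˣ) (hc : ¬ ∃ (i : ℤ) (x : Kˣ), c = b ^ i * x ^ ℓ)
    (S : Set (HeightOneSpectrum (𝓞 K))) (hS : S.Finite)
    (hSl : ∀ v : HeightOneSpectrum (𝓞 K), (ℓ : 𝓞 K) ∈ v.asIdeal → v ∈ S)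
    (hbS : b ∈ S.unit K) (hcS : c ∈ S.unit K) :
    ∃ v ∉ S, (∃ x : (v.adicCompletion K)ˣ, x ^ ℓ = emb v b) ∧ ¬ ∃ x : (v.adicCompletion K)ˣ, x ^ ℓ = emb v c := by
  obtain ⟨ζ, hζ'⟩ := hζ
  obtain ⟨L, _, _, _, _, hdeg, hN, β, hβ0, hβ, hconj⟩ := Groth.Agent.Etbc.H224.KumField.exists_kummer K ℓ hζ' b hb
  have : IsTotallyComplex L := isTotallyComplex_of_algebra K L
  let cL : Lˣ := Units.map (algebraMap K L : K →* L) c
  have hcL : ¬ ∃ x : Lˣ, x ^ ℓ = cL := by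
    rintro ⟨x, hx⟩
    exact hc (kummer_pow ℓ hdeg hζ' hβ0 hβ hconj (γ := (x : L)) (by
      rw [← Units.val_pow_eq_pow_val, hx]; rfl))
  obtain ⟨w, hw, hcw⟩ := D2a ℓ ⟨_, hζ'.map_of_injective (algebraMap K L).injective⟩ cL hcL (places L S)
    (places_finite hS)
  have hv : below K w ∉ S := fun h => hw ((mem_places_iff S w).2 h)
  obtain ⟨f, hf⟩ := Groth.Agent.Etbc.H191.NfCompl.exists_ringHom K L (below K w) w (below_liesOver w)
  have hfx : ∀ x : K, f (algebraMap K ((below K w).adicCompletion K) x) =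
      algebraMap L (w.adicCompletion L) (algebraMap K L x) := fun x => RingHom.congr_fun hf x
  have hcv : ¬ ∃ x : ((below K w).adicCompletion K)ˣ, x ^ ℓ = emb (below K w) c := by
    rintro ⟨x, hx⟩
    refine hcw ⟨f x, ?_⟩
    rw [← map_pow, ← Units.val_pow_eq_pow_val, hx, coe_emb, hfx]
    rfl
  refine ⟨below K w, hv, ?_, hcv⟩
  by_contra hbv
  obtain ⟨i, z, hz⟩ := unit_zpow ℓ (below K w) (fun h => hv (hSl _ h)) (emb _ b)
    (by rw [valued_emb]; exact hbS _ hv) hbv (emb _ c) (by rw [valued_emb]; exact hcS _ hv)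
  let F : ((below K w).adicCompletion K)ˣ →* (w.adicCompletion L)ˣ := Units.map (f : _ →* _)
  let βw : (w.adicCompletion L)ˣ := Units.map (algebraMap L (w.adicCompletion L) : L →* _) (Units.mk0 β hβ0)
  have hFb : F (emb _ b) = βw ^ ℓ := by
    apply Units.ext
    change f (algebraMap K _ (b : K)) = ((βw ^ ℓ : (w.adicCompletion L)ˣ) : w.adicCompletion L)
    rw [hfx, ← hβ, map_pow, Units.val_pow_eq_pow_val]
    rfl
  have h1 := congrArg F hz
  rw [map_mul, map_zpow, map_pow, hFb] at h1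
  refine hcw ⟨((βw ^ i * F z : (w.adicCompletion L)ˣ) : w.adicCompletion L), ?_⟩
  rw [← Units.val_pow_eq_pow_val, mul_pow, ← zpow_natCast, ← zpow_mul, mul_comm i, zpow_mul, zpow_natCast, ← h1]
  change f (algebraMap K _ (c : K)) = _
  rw [hfx]
  rfl

/-- the local conditions at a finite set of auxiliary places -/
structure Good (b : Kˣ) (S T : Set (HeightOneSpectrum (𝓞 K))) (n : ℕ) : Prop where
  fin : T.Finite
  card : T.ncard = n
  disj : ∀ v ∈ T, v ∉ S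
  pow : ∀ v ∈ T, ∃ x : (v.adicCompletion K)ˣ, x ^ ℓ = emb v b
  surj : ∀ x : (∀ v : HeightOneSpectrum (𝓞 K), (v.adicCompletion K)ˣ),
    (∀ v ∈ T, Valued.v (x v : v.adicCompletion K) = 1) →
    ∃ u ∈ S.unit K, ∀ v ∈ T, ∃ z : (v.adicCompletion K)ˣ, emb v u = x v * z ^ ℓ
  le : (toQ T (PG K ℓ)).ker.relIndex (S.unit K) ≤ ℓ ^ n
  ne : (toQ T (PG K ℓ)).ker.relIndex (S.unit K) ≠ 0

theorem good_zero (b : Kˣ) (S : Set (HeightOneSpectrum (𝓞 K))) : Good ℓ b S ∅ 0 := by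
  have h : (toQ (∅ : Set (HeightOneSpectrum (𝓞 K))) (PG K ℓ)).ker.relIndex (S.unit K) = 1 := by
    rw [Subgroup.relIndex_eq_one]
    intro x _
    rw [mem_ker_toQ]
    exact fun v hv => absurd hv (Set.notMem_empty v)
  exact ⟨Set.finite_empty, Set.ncard_empty _, fun v hv => absurd hv (Set.notMem_empty v),
    fun v hv => absurd hv (Set.notMem_empty v),
    fun x _ => ⟨1, Subgroup.one_mem _, fun v hv => absurd hv (Set.notMem_empty v)⟩,
    by rw [h, pow_zero], by rw [h]; exact one_ne_zero⟩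

/-- a new element at which to apply `aux_prime` -/
theorem exists_new [IsTotallyComplex K] (hζ : ∃ ζ : K, IsPrimitiveRoot ζ ℓ) (b : Kˣ)
    (S : Set (HeightOneSpectrum (𝓞 K))) (hS : S.Finite) (hbS : b ∈ S.unit K) (n : ℕ)
    (hn : n + 1 < S.ncard + Module.finrank ℚ K / 2) (N : Subgroup Kˣ) (h1 : N.relIndex (S.unit K) ≤ ℓ ^ n)
    (h2 : N.relIndex (S.unit K) ≠ 0) :
    ∃ c ∈ S.unit K, c ∈ N ∧ ¬ ∃ (i : ℤ) (x : Kˣ), c = b ^ i * x ^ ℓ := by
  by_contra hcon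
  push Not at hcon
  let Ul : Subgroup Kˣ := (S.unit K).map (powMonoidHom ℓ)
  let W : Subgroup Kˣ := Subgroup.zpowers b ⊔ Ul
  have hUlU : Ul ≤ S.unit K := by
    rintro _ ⟨x, hx, rfl⟩
    exact (S.unit K).pow_mem hx ℓ
  have hWU : W ≤ S.unit K := sup_le ((Subgroup.zpowers_le).2 hbS) hUlU
  have hUl : Ul.relIndex (S.unit K) = ℓ ^ (S.ncard + Module.finrank ℚ K / 2) := by
    rw [← B1 K ℓ hζ S hS]
    change (Ul.subgroupOf (S.unit K)).index = _
    congr 1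
    ext x
    rw [Subgroup.mem_subgroupOf]
    constructor
    · rintro ⟨y, hy, hyx⟩
      exact ⟨⟨y, hy⟩, Subtype.ext hyx⟩
    · rintro ⟨y, rfl⟩
      exact ⟨y.1, y.2, rfl⟩
  have h3 := Subgroup.relIndex_mul_relIndex Ul W (S.unit K) le_sup_right hWU
  have h4 := (relIndex_le_of_zpow ℓ hℓ.out.pos Ul W b
    ((le_sup_left : Subgroup.zpowers b ≤ W) (Subgroup.mem_zpowers b)) ⟨b, hbS, rfl⟩ (fun u hu => by
      obtain ⟨y, hy, z, hz, rfl⟩ := Subgroup.mem_sup.1 hu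
      obtain ⟨i, rfl⟩ := Subgroup.mem_zpowers_iff.1 hy
      exact ⟨i, z, hz, rfl⟩)).1
  have hNW : N ⊓ S.unit K ≤ W := by
    rintro c ⟨hcN, hcU⟩
    obtain ⟨i, x, rfl⟩ := hcon c hcU hcN
    refine W.mul_mem ((le_sup_left : Subgroup.zpowers b ≤ W) (Subgroup.zpow_mem_zpowers b i))
      ((le_sup_right : Ul ≤ W) ⟨x, mem_unit_of_pow ℓ S x ?_, rfl⟩)
    have h5 := (S.unit K).mul_mem ((S.unit K).inv_mem ((S.unit K).zpow_mem hbS i)) hcU
    rwa [inv_mul_cancel_left] at h5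
  have h5 : W.relIndex (S.unit K) ≤ N.relIndex (S.unit K) := by
    have := Subgroup.relIndex_le_of_le_left hNW (K := W) (L := S.unit K)
      (by rw [Subgroup.inf_relIndex_right]; exact h2)
    rwa [Subgroup.inf_relIndex_right] at this
  have h6 : ℓ ^ (S.ncard + Module.finrank ℚ K / 2) ≤ ℓ ^ (n + 1) := by
    rw [← hUl, ← h3, pow_succ, mul_comm]
    exact Nat.mul_le_mul (h5.trans h1) h4
  have h7 := (Nat.pow_le_pow_iff_right hℓ.out.one_lt).1 h6
  omega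

theorem good_succ [IsTotallyComplex K] (hζ : ∃ ζ : K, IsPrimitiveRoot ζ ℓ) (b : Kˣ)
    (hb : ¬ ∃ x : Kˣ, x ^ ℓ = b)
    (S : Set (HeightOneSpectrum (𝓞 K))) (hS : S.Finite)
    (hSl : ∀ v : HeightOneSpectrum (𝓞 K), (ℓ : 𝓞 K) ∈ v.asIdeal → v ∈ S)
    (hbS : b ∈ S.unit K) (n : ℕ) (hn : n + 1 < S.ncard + Module.finrank ℚ K / 2)
    (T : Set (HeightOneSpectrum (𝓞 K))) (hT : Good ℓ b S T n) :
    ∃ T' : Set (HeightOneSpectrum (𝓞 K)), Good ℓ b S T' (n + 1) := by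
  obtain ⟨c, hcS, hcN, hc⟩ := exists_new ℓ hζ b S hS hbS n hn _ hT.le hT.ne
  rw [mem_ker_toQ] at hcN
  obtain ⟨v, hvST, hbv, hcv⟩ := aux_prime ℓ hζ b hb c hc (S ∪ T) (hS.union hT.fin)
    (fun v hv => Or.inl (hSl v hv)) (unit_mono Set.subset_union_left hbS)
    (unit_mono Set.subset_union_left hcS)
  have hvS : v ∉ S := fun h => hvST (Or.inl h)
  have hvT : v ∉ T := fun h => hvST (Or.inr h)
  have hvl : (ℓ : 𝓞 K) ∉ v.asIdeal := fun h => hvS (hSl v h)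
  have hcv1 : Valued.v ((emb v c : (v.adicCompletion K)ˣ) : v.adicCompletion K) = 1 := by
    rw [valued_emb]; exact hcS v hvS
  let Mv : Subgroup Kˣ := (PG K ℓ v).comap (emb v)
  have hMv := relIndex_le_of_zpow ℓ hℓ.out.pos Mv (S.unit K) c hcS
    (by
      rw [Subgroup.mem_comap, map_pow]
      exact ⟨emb v c, rfl⟩)
    (fun u hu => by
      obtain ⟨i, z, hz⟩ := unit_zpow ℓ v hvl (emb v c) hcv1 hcv (emb v u)
        (by rw [valued_emb]; exact hu v hvS)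
      refine ⟨i, (c ^ i)⁻¹ * u, ?_, by rw [mul_inv_cancel_left]⟩
      rw [Subgroup.mem_comap, map_mul, map_inv, map_zpow, hz, inv_mul_cancel_left]
      exact ⟨z, rfl⟩)
  have hker : (toQ (insert v T) (PG K ℓ)).ker = (toQ T (PG K ℓ)).ker ⊓ Mv := by
    ext x
    rw [Subgroup.mem_inf, mem_ker_toQ, mem_ker_toQ, Subgroup.mem_comap]
    constructor
    · intro h
      exact ⟨fun v' hv' => h v' (Set.mem_insert_of_mem _ hv'), h v (Set.mem_insert _ _)⟩
    · rintro ⟨h1, h2⟩ v' hv'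
      rcases Set.mem_insert_iff.1 hv' with rfl | h
      · exact h2
      · exact h1 v' h
  refine ⟨insert v T, hT.fin.insert v, ?_, ?_, ?_, ?_, ?_, ?_⟩
  · rw [Set.ncard_insert_of_notMem hvT hT.fin, hT.card]
  · intro v' hv'
    rcases Set.mem_insert_iff.1 hv' with rfl | h
    · exact hvS
    · exact hT.disj v' h
  · intro v' hv'
    rcases Set.mem_insert_iff.1 hv' with rfl | h
    · exact hbv
    · exact hT.pow v' h
  · intro x hx
    obtain ⟨u, hu, hux⟩ := hT.surj x (fun v' hv' => hx v' (Set.mem_insert_of_mem _ hv'))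
    obtain ⟨i, z, hz⟩ := unit_zpow ℓ v hvl (emb v c) hcv1 hcv (x v * (emb v u)⁻¹) (by
      rw [Units.val_mul, map_mul, hx v (Set.mem_insert _ _), one_mul, Units.val_inv_eq_inv_val, map_inv₀,
        valued_emb, hu v hvS, inv_one])
    refine ⟨u * c ^ i, (S.unit K).mul_mem hu ((S.unit K).zpow_mem hcS i), fun v' hv' => ?_⟩
    rcases Set.mem_insert_iff.1 hv' with rfl | h
    · refine ⟨z⁻¹, ?_⟩
      rw [map_mul, map_zpow]
      have h1 : emb v' c ^ i = x v' * (emb v' u)⁻¹ * (z ^ ℓ)⁻¹ := by rw [hz, mul_inv_cancel_right]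
      rw [h1, inv_pow, mul_comm (x v'), ← mul_assoc, ← mul_assoc, mul_inv_cancel, one_mul]
    · obtain ⟨z', hz'⟩ := hux v' h
      obtain ⟨t, ht⟩ := hcN v' h
      change t ^ ℓ = _ at ht
      refine ⟨z' * t ^ i, ?_⟩
      rw [map_mul, map_zpow, hz', ← ht, mul_pow, mul_assoc]
      congr 2
      rw [← zpow_natCast, ← zpow_natCast, ← zpow_mul, ← zpow_mul, mul_comm]
  · rw [hker, pow_succ]
    exact Subgroup.relIndex_inf_le.trans (Nat.mul_le_mul hT.le hMv.1)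
  · rw [hker]
    exact Subgroup.relIndex_inf_ne_zero hT.ne hMv.2

theorem exists_good [IsTotallyComplex K] (hζ : ∃ ζ : K, IsPrimitiveRoot ζ ℓ) (b : Kˣ)
    (hb : ¬ ∃ x : Kˣ, x ^ ℓ = b)
    (S : Set (HeightOneSpectrum (𝓞 K))) (hS : S.Finite)
    (hSl : ∀ v : HeightOneSpectrum (𝓞 K), (ℓ : 𝓞 K) ∈ v.asIdeal → v ∈ S)
    (hbS : b ∈ S.unit K) (n : ℕ) (hn : n < S.ncard + Module.finrank ℚ K / 2) :
    ∃ T : Set (HeightOneSpectrum (𝓞 K)), Good ℓ b S T n := by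
  induction n with
  | zero => exact ⟨∅, good_zero ℓ b S⟩
  | succ n ih =>
    obtain ⟨T, hT⟩ := ih (by omega)
    exact good_succ ℓ hζ b hb S hS hSl hbS n hn T hT

end Groth.Agent.Etbc.H224.Hasse2
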