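import Groth.Agent.Etbc.H224.Hasse2

/-!
# The Hasse norm theorem for cyclic extensions of prime degree, III

`D2`: if `K` is a totally complex number field containing the `ℓ`-th roots of unity, then an element
`a` of `Kˣ` which is a norm from `K_v[X]/(X^ℓ - b)` for all finite places `v` is a norm from
`K[X]/(X^ℓ - b)`.
-/

set_option autoImplicit false
universe u
open NumberField IsDedekindDomain Polynomial

namespace Groth.Agent.Etbc.H224.Hasse3

open Groth.Agent.Etbc.H226.NFDefs Groth.Agent.Etbc.H224.Hasse0 Groth.Agent.Etbc.H224.Inputs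
open Groth.Agent.Etbc.H224.Hasse1 Groth.Agent.Etbc.H224.Hasse2

variable {K : Type u} [Field K] [NumberField K] (ℓ : ℕ) [hℓ : Fact ℓ.Prime]

/-- an `S ∪ T`-unit which is an `ℓ`-th power at the places of `S` is an `ℓ`-th power -/
theorem pow_of_local [IsTotallyComplex K] (hζ : ∃ ζ : K, IsPrimitiveRoot ζ ℓ) (b : Kˣ)
    (S : Set (HeightOneSpectrum (𝓞 K))) (hS : S.Finite) (hcl : ClTriv S)
    (hSl : ∀ v : HeightOneSpectrum (𝓞 K), (ℓ : 𝓞 K) ∈ v.asIdeal → v ∈ S)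
    (T : Set (HeightOneSpectrum (𝓞 K))) (n : ℕ) (hT : Good ℓ b S T n) (c : Kˣ)
    (hcU : c ∈ (S ∪ T).unit K) (hc : ∀ v ∈ S, ∃ z : (v.adicCompletion K)ˣ, z ^ ℓ = emb v c) :
    ∃ x : Kˣ, x ^ ℓ = c := by
  classical
  by_contra h
  refine not_surj ℓ hζ c h (S ∪ T) (hS.union hT.fin) (clTriv_mono Set.subset_union_left hcl)
    (fun v hv => Or.inl (hSl v hv)) hcU (map_eq_top _ _ _ fun x => ?_)
  obtain ⟨z, hz⟩ := Groth.Agent.Etbc.H226.SUnits.exists_of_clTriv hcl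
    (fun v => if v ∈ T then (Valued.v (x v : v.adicCompletion K)).log else 0) hT.fin
    (fun v _ hvT => if_neg hvT)
  obtain ⟨u, hu, hux⟩ := hT.surj (fun v => x v * (emb v z)⁻¹) (fun v hv => by
    have h1 := hz v (hT.disj v hv)
    rw [if_pos hv, WithZero.exp_log ((Valuation.ne_zero_iff _).2 (x v).ne_zero)] at h1
    rw [Units.val_mul, map_mul, Units.val_inv_eq_inv_val, map_inv₀, valued_emb, h1]
    exact mul_inv_cancel₀ ((Valuation.ne_zero_iff _).2 (x v).ne_zero))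
  refine ⟨u * z, fun v hv => ?_, fun v hv => ?_⟩
  · have h1 : v ∉ S := fun h' => hv (Or.inl h')
    have h2 : v ∉ T := fun h' => hv (Or.inr h')
    rw [Units.val_mul, map_mul, hu v h1, hz v h1, if_neg h2, WithZero.exp_zero, one_mul]
  · by_cases hvT : v ∈ T
    · obtain ⟨t, ht⟩ := hux v hvT
      refine ⟨t ^ ℓ, PG_le_NG ℓ c v ⟨t, rfl⟩, ?_⟩
      rw [map_mul, ht, mul_assoc, mul_comm (t ^ ℓ), ← mul_assoc, inv_mul_cancel_right]
    · have hvS : v ∈ S := hv.resolve_right hvT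
      refine ⟨(x v)⁻¹ * emb v (u * z), ?_, by rw [mul_inv_cancel_left]⟩
      rw [NG_eq_top ℓ hζ c v ((pow_unit_iff ℓ (emb v c)).2 (hc v hvS))]
      trivial

theorem D2 [IsTotallyComplex K] (hζ : ∃ ζ : K, IsPrimitiveRoot ζ ℓ) (a b : Kˣ)
    (h : ∀ v : HeightOneSpectrum (𝓞 K), Units.map (algebraMap K (v.adicCompletion K) : K →* v.adicCompletion K) a ∈
        normGroup ℓ (algebraMap K (v.adicCompletion K) (b : K))) : a ∈ normGroup ℓ (b : K) := by
  by_cases hb : ∃ x : Kˣ, x ^ ℓ = b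
  · obtain ⟨x, rfl⟩ := hb
    rw [Units.val_pow_eq_pow_val, Groth.Agent.Etbc.H214.NormGroup.C3top hζ x]
    trivial
  obtain ⟨S, hSS, hS, hcl⟩ := B3 K ({v : HeightOneSpectrum (𝓞 K) | (ℓ : 𝓞 K) ∈ v.asIdeal} ∪
    ({v : HeightOneSpectrum (𝓞 K) | v.valuation K (a : K) ≠ 1} ∪
      {v : HeightOneSpectrum (𝓞 K) | v.valuation K (b : K) ≠ 1}))
    ((finite_above ℓ).union ((finite_supp a).union (finite_supp b)))
  have hSl : ∀ v : HeightOneSpectrum (𝓞 K), (ℓ : 𝓞 K) ∈ v.asIdeal → v ∈ S := fun v hv => hSS (Or.inl hv)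
  have haS : a ∈ S.unit K := fun v hv => by
    by_contra h'
    exact hv (hSS (Or.inr (Or.inl h')))
  have hbS : b ∈ S.unit K := fun v hv => by
    by_contra h'
    exact hv (hSS (Or.inr (Or.inr h')))
  have hfr := IsTotallyComplex.finrank K
  have hfr0 := Module.finrank_pos (R := ℚ) (M := K)
  obtain ⟨T, hT⟩ := exists_good ℓ hζ b hb S hS hSl hbS (S.ncard + Module.finrank ℚ K / 2 - 1) (by omega)
  have hS' : (S ∪ T).Finite := hS.union hT.fin
  have hdisj : Disjoint S T := Set.disjoint_left.2 fun v hv hv' => hT.disj v hv' hv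
  have hcard : (S ∪ T).ncard = S.ncard + (S.ncard + Module.finrank ℚ K / 2 - 1) := by
    rw [Set.ncard_union_eq hdisj hS hT.fin, hT.card]
  -- the image of the `S ∪ T`-units in the product of the `K_vˣ / ℓ`
  have hP1 : (toQ S (PG K ℓ)).ker.relIndex ((S ∪ T).unit K) =
      ℓ ^ ((S ∪ T).ncard + Module.finrank ℚ K / 2) := by
    rw [← B1 K ℓ hζ (S ∪ T) hS']
    change ((toQ S (PG K ℓ)).ker.subgroupOf ((S ∪ T).unit K)).index = _
    congr 1
    ext x
    rw [Subgroup.mem_subgroupOf, mem_ker_toQ]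
    constructor
    · intro hx
      obtain ⟨y, hy⟩ := pow_of_local ℓ hζ b S hS hcl hSl T _ hT x.1 x.2 (fun v hv => hx v hv)
      exact ⟨⟨y, mem_unit_of_pow ℓ _ y (by rw [hy]; exact x.2)⟩, Subtype.ext hy⟩
    · rintro ⟨y, rfl⟩ v _
      refine ⟨emb v y.1, ?_⟩
      change emb v y.1 ^ ℓ = emb v (y.1 ^ ℓ)
      rw [map_pow]
  rw [relIndex_ker_toQ] at hP1
  have hP2 := Groth.Agent.Etbc.H224.Inputs2.card_Q_PG K ℓ hζ S hS hSl
  have hP3 : (((S ∪ T).unit K).map (toQ S (PG K ℓ))).index = ℓ := by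
    have h1 := Subgroup.card_mul_index (((S ∪ T).unit K).map (toQ S (PG K ℓ)))
    rw [hP1, hP2] at h1
    have h2 : 2 * S.ncard + Module.finrank ℚ K = (S ∪ T).ncard + Module.finrank ℚ K / 2 + 1 := by
      rw [hcard]
      omega
    rw [h2, pow_succ] at h1
    exact Nat.eq_of_mul_eq_mul_left (Nat.pow_pos hℓ.out.pos) h1
  -- the image in the product of the norm residue groups
  have hQ1 : (((S ∪ T).unit K).map (toQ S (NG ℓ b))).index ≤ ℓ := by
    have h1 := index_map_dvd S (PG K ℓ) (NG ℓ b) (fun v => PG_le_NG ℓ b v) ((S ∪ T).unit K)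
    rw [hP3] at h1
    exact Nat.le_of_dvd hℓ.out.pos h1
  have hQ2 : ℓ ^ np ℓ b S ≤ (toQ S (NG ℓ b)).ker.relIndex ((S ∪ T).unit K) * ℓ := by
    have h1 := Subgroup.card_mul_index (((S ∪ T).unit K).map (toQ S (NG ℓ b)))
    rw [card_Q_NG' ℓ hζ b S hS] at h1
    rw [relIndex_ker_toQ, ← h1]
    exact Nat.mul_le_mul_left _ hQ1
  have hnp : np ℓ b (S ∪ T) = np ℓ b S := by
    unfold np
    congr 1
    ext v
    constructor
    · rintro ⟨h1 | h1, h2⟩
      · exact ⟨h1, h2⟩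
      · exact absurd ((pow_unit_iff ℓ (emb v b)).2 (hT.pow v h1)) h2
    · rintro ⟨h1, h2⟩
      exact ⟨Or.inl h1, h2⟩
  have hD := first_ineq ℓ hζ b hb (S ∪ T) hS' (clTriv_mono Set.subset_union_left hcl)
    (fun v hv => Or.inl (hSl v hv)) (unit_mono Set.subset_union_left hbS)
  rw [hnp] at hD
  have hfin : (normGroup ℓ (b : K)).relIndex ((S ∪ T).unit K) ≤
      (toQ S (NG ℓ b)).ker.relIndex ((S ∪ T).unit K) :=
    Nat.le_of_mul_le_mul_right (hD.trans hQ2) hℓ.out.pos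
  refine inf_eq_of_relIndex_le (normGroup ℓ (b : K)) (toQ S (NG ℓ b)).ker ((S ∪ T).unit K)
    (normGroup_le_ker ℓ b S) (relIndex_normGroup_ne_zero ℓ hζ b (S ∪ T) hS') hfin a
    (unit_mono Set.subset_union_left haS) ?_
  rw [mem_ker_toQ]
  exact fun v _ => h v

end Groth.Agent.Etbc.H224.Hasse3
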