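import Groth.Agent.Etbc.H136.SUnit
import Groth.Agent.Etbc.H197.C4
import Groth.Agent.Etbc.H197.C1
import Groth.Agent.Etbc.H214.NormGroup
import Groth.Agent.Etbc.H222.AdicLF
import Groth.Agent.Etbc.H226.D1
import Groth.Agent.Etbc.H191.NfCompl
import Groth.Agent.Etbc.H224.Hasse0
import Mathlib.NumberTheory.NumberField.InfinitePlace.TotallyRealComplex

/-!
# The inputs of the Hasse norm theorem in the form used
-/

set_option autoImplicit false
universe u
open NumberField IsDedekindDomain Polynomial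

namespace Groth.Agent.Etbc.H224.Inputs

open Groth.Agent.Etbc.H226.NFDefs Groth.Agent.Etbc.H224.Hasse0

theorem index_eq_cok (n : ℕ) (A : Type*) [CommGroup A] :
    (powMonoidHom n : A →* A).range.index = Groth.Agent.Etcore.Herbrand.cok n (Additive A) := by
  rw [Subgroup.index_eq_card]
  refine Nat.card_congr (Quotient.congr (Additive.ofMul : A ≃ Additive A) ?_)
  intro a b
  change QuotientGroup.leftRel _ a b ↔ (Submodule.quotientRel _) (Additive.ofMul a) (Additive.ofMul b)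
  rw [QuotientGroup.leftRel_apply, Submodule.quotientRel_def]
  constructor
  · rintro ⟨x, hx⟩
    refine ⟨Additive.ofMul x⁻¹, ?_⟩
    rw [Groth.Agent.Etcore.Herbrand.mulN_apply]
    change Additive.ofMul (x⁻¹ ^ n) = Additive.ofMul (a / b)
    have hx' : x ^ n = a⁻¹ * b := hx
    rw [inv_pow, hx', mul_inv, inv_inv, div_eq_mul_inv]
  · rintro ⟨x, hx⟩
    rw [Groth.Agent.Etcore.Herbrand.mulN_apply] at hx
    have hx' : (Additive.toMul x) ^ n = a / b := hx
    refine ⟨(Additive.toMul x)⁻¹, ?_⟩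
    change (Additive.toMul x)⁻¹ ^ n = a⁻¹ * b
    rw [inv_pow, hx', div_eq_mul_inv, mul_inv, inv_inv]

variable (K : Type u) [Field K] [NumberField K] (ℓ : ℕ) [hℓ : Fact ℓ.Prime]

theorem tor_sUnit (hζ : ∃ ζ : K, IsPrimitiveRoot ζ ℓ) (S : Set (HeightOneSpectrum (𝓞 K))) :
    Groth.Agent.Etcore.Herbrand.tor ℓ (Additive (S.unit K)) = ℓ := by
  obtain ⟨ζ, hζ⟩ := hζ
  have : NeZero ℓ := ⟨hℓ.out.ne_zero⟩
  have h1 : Nat.card (rootsOfUnity ℓ K) = ℓ := hζ.card_rootsOfUnity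
  rw [Groth.Agent.Etcore.Herbrand.tor_eq]
  conv_rhs => rw [← h1]
  refine Nat.card_congr ⟨fun m => ⟨((Additive.toMul m.1 : S.unit K) : Kˣ), ?_⟩,
    fun z => ⟨Additive.ofMul ⟨z.1, ?_⟩, ?_⟩, fun m => rfl, fun z => rfl⟩
  · have h2 : (Additive.toMul m.1 : S.unit K) ^ ℓ = 1 := m.2
    rw [mem_rootsOfUnity]
    exact congrArg Subtype.val h2
  · intro v _
    have h2 : (z.1 : Kˣ) ^ ℓ = 1 := (mem_rootsOfUnity _ _).1 z.2
    have h3 : v.valuation K ((z.1 : Kˣ) : K) ^ ℓ = 1 := by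
      rw [← map_pow, ← Units.val_pow_eq_pow_val, h2, Units.val_one, map_one]
    exact (pow_eq_one_iff.1 h3).resolve_right hℓ.out.ne_zero
  · have h2 : (z.1 : Kˣ) ^ ℓ = 1 := (mem_rootsOfUnity _ _).1 z.2
    change Additive.ofMul (_ ^ ℓ) = Additive.ofMul (1 : S.unit K)
    exact congrArg Additive.ofMul (Subtype.ext h2)

theorem B1 [IsTotallyComplex K] (hζ : ∃ ζ : K, IsPrimitiveRoot ζ ℓ)
    (S : Set (HeightOneSpectrum (𝓞 K))) (hS : S.Finite) :
    (powMonoidHom ℓ : S.unit K →* S.unit K).range.index = ℓ ^ (S.ncard + Module.finrank ℚ K / 2) := by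
  rw [index_eq_cok, (Groth.Agent.Etbc.H136.SUnit.cok_sUnit ℓ K S hS).2, tor_sUnit K ℓ hζ, ← pow_succ]
  congr 1
  have h1 := IsTotallyComplex.finrank K
  have h2 := IsTotallyComplex.nrRealPlaces_eq_zero K
  have h3 : 0 < InfinitePlace.nrComplexPlaces K := by
    have := Module.finrank_pos (R := ℚ) (M := K)
    omega
  have h4 : NumberField.Units.rank K = InfinitePlace.nrComplexPlaces K - 1 := by
    rw [NumberField.Units.rank, InfinitePlace.card_eq_nrRealPlaces_add_nrComplexPlaces, h2, zero_add]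
  rw [h4, h1]
  omega

theorem B3 (S : Set (HeightOneSpectrum (𝓞 K))) (hS : S.Finite) :
    ∃ S' : Set (HeightOneSpectrum (𝓞 K)), S ⊆ S' ∧ S'.Finite ∧ ClTriv S' := by
  classical
  obtain ⟨S₁, hS₁, h⟩ := Groth.Agent.Etbc.H136.SUnit.exists_finite_principal K
  refine ⟨S ∪ S₁, Set.subset_union_left, hS.union hS₁, fun v hv => ?_⟩
  obtain ⟨x, hx⟩ := h (Finsupp.single v (-1))
  refine ⟨x, ?_, fun v' hv' hne => ?_⟩
  · rw [hx v (fun h => hv (Or.inr h)), Finsupp.single_eq_same]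
  · rw [hx v' (fun h => hv' (Or.inr h)), Finsupp.single_eq_of_ne hne, WithZero.exp_zero]

instance hens (v : HeightOneSpectrum (𝓞 K)) : HenselianLocalRing (v.adicCompletionIntegers K) :=
  Groth.Agent.Etbc.H222.AdicLF.henselian v

instance fin (v : HeightOneSpectrum (𝓞 K)) :
    Finite (IsLocalRing.ResidueField (v.adicCompletionIntegers K)) :=
  Groth.Agent.Etbc.H222.AdicLF.finite_residueField v (v.asIdeal.finiteQuotientOfFreeOfNeBot v.ne_bot)

variable {K}

/-- the family of norm groups -/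
noncomputable def NG (c : Kˣ) : Fam K := fun v => normGroup ℓ (algebraMap K (v.adicCompletion K) (c : K))

/-- the family of `ℓ`-th powers -/
noncomputable def PG (K : Type u) [Field K] [NumberField K] (ℓ : ℕ) : Fam K :=
  fun v => (powMonoidHom ℓ : (v.adicCompletion K)ˣ →* (v.adicCompletion K)ˣ).range

theorem PG_le_NG (c : Kˣ) (v : HeightOneSpectrum (𝓞 K)) : PG K ℓ v ≤ NG ℓ c v := by
  rintro _ ⟨x, rfl⟩
  exact Groth.Agent.Etbc.H214.NormGroup.C3pow hℓ.out.ne_zero _ x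

variable (K) in
omit hℓ in
theorem exists_prim (hζ : ∃ ζ : K, IsPrimitiveRoot ζ ℓ) (v : HeightOneSpectrum (𝓞 K)) :
    ∃ ζ : v.adicCompletion K, IsPrimitiveRoot ζ ℓ := by
  obtain ⟨ζ, hζ⟩ := hζ
  exact ⟨_, hζ.map_of_injective (algebraMap K (v.adicCompletion K)).injective⟩

theorem NG_eq_top (hζ : ∃ ζ : K, IsPrimitiveRoot ζ ℓ) (c : Kˣ) (v : HeightOneSpectrum (𝓞 K))
    (h : ∃ x : v.adicCompletion K, x ^ ℓ = algebraMap K (v.adicCompletion K) (c : K)) : NG ℓ c v = ⊤ := by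
  obtain ⟨x, hx⟩ := h
  have hx0 : x ≠ 0 := by
    rintro rfl
    rw [zero_pow hℓ.out.ne_zero] at hx
    exact c.ne_zero ((map_eq_zero _).1 hx.symm)
  have := Groth.Agent.Etbc.H214.NormGroup.C3top (exists_prim K ℓ hζ v) (Units.mk0 x hx0)
  rw [Units.val_mk0, hx] at this
  exact this

theorem index_NG (hζ : ∃ ζ : K, IsPrimitiveRoot ζ ℓ) (c : Kˣ) (v : HeightOneSpectrum (𝓞 K))
    (h : ¬ ∃ x : v.adicCompletion K, x ^ ℓ = algebraMap K (v.adicCompletion K) (c : K)) :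
    (NG ℓ c v).index = ℓ := by
  refine Groth.Agent.Etbc.H197.C4 ℓ (v.adicCompletion K) (Groth.Agent.Etbc.H222.AdicLF.isLF_adicCompletion K v)
    (exists_prim K ℓ hζ v) (emb v c) ?_
  rintro ⟨x, hx⟩
  exact h ⟨x, by rw [← Units.val_pow_eq_pow_val, hx, coe_emb]⟩

theorem emb_mem_NG (c : Kˣ) (a : Kˣ) (ha : a ∈ normGroup ℓ (c : K)) (v : HeightOneSpectrum (𝓞 K)) :
    emb v a ∈ NG ℓ c v :=
  Groth.Agent.Etbc.H214.NormGroup.C3map (algebraMap K (v.adicCompletion K)) a (c : K) ha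

theorem card_Q_NG (hζ : ∃ ζ : K, IsPrimitiveRoot ζ ℓ) (c : Kˣ) (S : Set (HeightOneSpectrum (𝓞 K)))
    (hS : S.Finite) : Nat.card (Q S (NG ℓ c)) =
      ℓ ^ {v ∈ S | ¬ ∃ x : v.adicCompletion K, x ^ ℓ = algebraMap K (v.adicCompletion K) (c : K)}.ncard := by
  classical
  rw [card_Q S hS]
  have h1 : ∀ v ∈ hS.toFinset, (NG ℓ c v).index =
      if ¬ ∃ x : v.adicCompletion K, x ^ ℓ = algebraMap K (v.adicCompletion K) (c : K) then ℓ else 1 := by
    intro v _
    split_ifs with h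
    · rw [NG_eq_top ℓ hζ c v h, Subgroup.index_top]
    · exact index_NG ℓ hζ c v h
  rw [Finset.prod_congr rfl h1, Finset.prod_ite, Finset.prod_const_one, mul_one, Finset.prod_const]
  congr 1
  rw [← Set.ncard_coe_finset]
  congr 1
  ext v
  simp

end Groth.Agent.Etbc.H224.Inputs
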