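import Groth.Agent.Etbc.H224.Inputs
import Groth.Agent.Etbc.H211.C1prime

/-!
# The inputs of the Hasse norm theorem in the form used, II
-/

set_option autoImplicit false
universe u
open NumberField IsDedekindDomain Polynomial

namespace Groth.Agent.Etbc.H224.Inputs2

open Groth.Agent.Etbc.H226.NFDefs Groth.Agent.Etbc.H224.Hasse0 Groth.Agent.Etbc.H224.Inputs

theorem card_Q_PG (K : Type u) [Field K] [NumberField K] (ℓ : ℕ) [hℓ : Fact ℓ.Prime]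
    (hζ : ∃ ζ : K, IsPrimitiveRoot ζ ℓ) (S : Set (HeightOneSpectrum (𝓞 K))) (hS : S.Finite)
    (hSl : ∀ v : HeightOneSpectrum (𝓞 K), (ℓ : 𝓞 K) ∈ v.asIdeal → v ∈ S) :
    Nat.card (Q S (PG K ℓ)) = ℓ ^ (2 * S.ncard + Module.finrank ℚ K) := by
  rw [card_Q S hS, ← Groth.Agent.Etbc.H211.C1prime.C1prime' K ℓ hζ S hS hSl]
  refine Finset.prod_congr rfl fun v _ => ?_
  rw [PG, index_eq_cok, Groth.Agent.Etbc.H197.C1.idx_eq_cok]

theorem WA (K : Type u) [Field K] [NumberField K] (ℓ : ℕ) [hℓ : Fact ℓ.Prime]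
    (S : Set (HeightOneSpectrum (𝓞 K))) (hS : S.Finite) (x : ∀ v : HeightOneSpectrum (𝓞 K), (v.adicCompletion K)ˣ) :
    ∃ y : Kˣ, ∀ v ∈ S, ∃ z : (v.adicCompletion K)ˣ, emb v y = x v * z ^ ℓ := by
  obtain ⟨y, hy⟩ := Groth.Agent.Etbc.H211.WeakApprox.exists_weak_approx K ℓ hℓ.out.ne_zero hS.toFinset x
  exact ⟨y, fun v hv => hy v (hS.mem_toFinset.2 hv)⟩

end Groth.Agent.Etbc.H224.Inputs2
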