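import Groth.Agent.Etbc.H191.NfFinal
import Groth.Agent.Etbc.H224.Hasse3

/-!
# Norm groups of algebraic extensions of `ℚ` containing all `ℓ`-power roots of unity
-/

set_option autoImplicit false
universe u
open NumberField IsDedekindDomain Polynomial

namespace Groth.Agent.Etbc.H224.NfEFinal

open Groth.Agent.Etbc.H226.NFDefs Groth.Agent.Etbc.H191

/-- the Hasse norm theorem -/
theorem d2Stmt (ℓ : ℕ) [Fact ℓ.Prime] : NfE.D2Stmt.{u} ℓ :=
  fun _ _ _ _ hζ a b h => Groth.Agent.Etbc.H224.Hasse3.D2 ℓ hζ a b h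

theorem E (ℓ : ℕ) [Fact ℓ.Prime] (E : Type u) [Field E] [CharZero E]
    [Algebra.IsAlgebraic ℚ E] (h : ∀ n, ∃ ζ : E, IsPrimitiveRoot ζ (ℓ ^ n)) (b : Eˣ) :
    normGroup ℓ (b : E) = ⊤ :=
  NfFinal.E_of_D2 ℓ (d2Stmt ℓ) E h b

end Groth.Agent.Etbc.H224.NfEFinal
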