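import Mathlib.FieldTheory.KummerPolynomial
import Mathlib.RingTheory.Norm.Transitivity
import Mathlib.LinearAlgebra.Transvection.Basic

/-!
# Norms from Kummer algebras

`KA p F b = F[X]/(X^p - b)`, `NR p a b`: `a` is a norm from `KA p F b`.
-/

set_option autoImplicit false

open Polynomial

namespace Groth.Agent.Etbc.H224.NormRel

/-- The norm is compatible with maps carrying a basis to a basis. -/
theorem norm_map_of_basis {ι R R' A A' : Type*} [Fintype ι] [DecidableEq ι] [CommRing R] [CommRing R']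
    [CommRing A] [CommRing A'] [Algebra R A] [Algebra R' A'] (b : Module.Basis ι R A)
    (b' : Module.Basis ι R' A') (φ : R →+* R') (ψ : A →+* A')
    (h : ψ.comp (algebraMap R A) = (algebraMap R' A').comp φ) (hb : ∀ i, ψ (b i) = b' i) (x : A) :
    φ (Algebra.norm R x) = Algebra.norm R' (ψ x) := by
  rw [Algebra.norm_eq_matrix_det b, Algebra.norm_eq_matrix_det b', RingHom.map_det]
  congr 1
  ext i j
  rw [RingHom.mapMatrix_apply, Matrix.map_apply, Algebra.leftMulMatrix_eq_repr_mul,
    Algebra.leftMulMatrix_eq_repr_mul]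
  have h1 : ψ (x * b j) = ∑ k, φ (b.repr (x * b j) k) • b' k := by
    conv_lhs => rw [← b.sum_repr (x * b j)]
    rw [map_sum]
    refine Finset.sum_congr rfl fun k _ => ?_
    rw [Algebra.smul_def, map_mul, Algebra.smul_def, hb]
    congr 1
    exact RingHom.congr_fun h _
  rw [map_mul, hb] at h1
  rw [h1, map_sum, Finsupp.finsetSum_apply]
  simp only [map_smul, Module.Basis.repr_self, Finsupp.smul_apply]
  rw [Finset.sum_eq_single i]
  · simp
  · intro k _ hk
    simp [hk]
  · simp

section

variable (p : ℕ) [hp : Fact p.Prime]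

/-- The Kummer algebra. -/
abbrev KA (F : Type*) [Field F] (b : F) : Type _ := AdjoinRoot (X ^ p - C b : F[X])

/-- `a` is a norm from the Kummer algebra of `b`. -/
def NR {F : Type*} [Field F] (a b : F) : Prop := ∃ y : KA p F b, Algebra.norm F y = a

variable {p}
variable {F : Type*} [Field F]

include hp in
theorem monic (b : F) : (X ^ p - C b : F[X]).Monic := monic_X_pow_sub_C b hp.out.ne_zero

omit hp in
theorem natDegree (b : F) : (X ^ p - C b : F[X]).natDegree = p := natDegree_X_pow_sub_C

instance (b : F) : Module.Free F (KA p F b) := (monic (p := p) b).free_adjoinRoot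
instance (b : F) : Module.Finite F (KA p F b) := (monic (p := p) b).finite_adjoinRoot

theorem finrank_KA (b : F) : Module.finrank F (KA p F b) = p := by
  rw [(AdjoinRoot.powerBasis' (monic (p := p) b)).finrank, AdjoinRoot.powerBasis'_dim, natDegree]

theorem NR.pow_mem (a b : F) : NR p (a ^ p) b :=
  ⟨algebraMap F _ a, by rw [Algebra.norm_algebraMap, finrank_KA]⟩

omit hp in
theorem NR.one (b : F) : NR p 1 b := ⟨1, map_one _⟩

omit hp in
theorem NR.mul {a a' b : F} (h : NR p a b) (h' : NR p a' b) : NR p (a * a') b := by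
  obtain ⟨y, rfl⟩ := h
  obtain ⟨y', rfl⟩ := h'
  exact ⟨y * y', map_mul _ _ _⟩

omit hp in
theorem NR.pow {a b : F} (h : NR p a b) (n : ℕ) : NR p (a ^ n) b := by
  obtain ⟨y, rfl⟩ := h
  exact ⟨y ^ n, map_pow _ _ _⟩

theorem NR.inv {a b : F} (h : NR p a b) : NR p a⁻¹ b := by
  by_cases ha : a = 0
  · rw [ha, inv_zero, ← ha]; exact h
  · have h1 : a⁻¹ = a ^ (p - 1) * (a⁻¹) ^ p := by
      obtain ⟨q, hq⟩ : ∃ q, p = q + 1 := ⟨p - 1, by have := hp.out.pos; omega⟩
      rw [hq, Nat.add_sub_cancel, pow_succ, ← mul_assoc, ← mul_pow, mul_inv_cancel₀ ha, one_pow,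
        one_mul]
    rw [h1]
    exact (h.pow _).mul (NR.pow_mem _ _)

/-- Functoriality. -/
theorem NR.map {F' : Type*} [Field F'] (φ : F →+* F') {a b : F} (h : NR p a b) :
    NR p (φ a) (φ b) := by
  obtain ⟨y, rfl⟩ := h
  have hg : ((X ^ p - C b : F[X])).map φ = X ^ p - C (φ b) := by simp
  let ψ : KA p F b →+* KA p F' (φ b) := AdjoinRoot.lift ((AdjoinRoot.of _).comp φ)
    (AdjoinRoot.root _) (by
      rw [← Polynomial.eval₂_map, hg]
      exact AdjoinRoot.eval₂_root _)
  refine ⟨ψ y, ?_⟩
  let B : PowerBasis F (KA p F b) := AdjoinRoot.powerBasis' (monic (p := p) b)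
  let B' : PowerBasis F' (KA p F' (φ b)) := AdjoinRoot.powerBasis' (monic (p := p) (φ b))
  have hd : B.dim = B'.dim := by
    change Polynomial.natDegree _ = Polynomial.natDegree _
    rw [natDegree, natDegree]
  symm
  refine norm_map_of_basis B.basis (B'.basis.reindex (finCongr hd.symm)) φ ψ ?_ ?_ y
  · ext x
    change ψ (AdjoinRoot.of _ x) = _
    rw [AdjoinRoot.lift_of]
    rfl
  · intro i
    rw [Module.Basis.reindex_apply, PowerBasis.basis_eq_pow, PowerBasis.basis_eq_pow, map_pow]
    congr 1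
    change ψ (AdjoinRoot.root _) = AdjoinRoot.root _
    rw [AdjoinRoot.lift_root]

/-- In the split case everything is a norm. -/
theorem NR.of_pow (hF : (p : F) ≠ 0) (a : F) {c : F} (hc : c ≠ 0) : NR p a (c ^ p) := by
  have hcp : eval₂ (RingHom.id F) c (X ^ p - C (c ^ p) : F[X]) = 0 := by simp
  let ev : KA p F (c ^ p) →+* F := AdjoinRoot.lift (RingHom.id F) c hcp
  have hevr : ev (AdjoinRoot.root _) = c := AdjoinRoot.lift_root _
  have hev : ∀ x : F, ev (algebraMap F _ x) = x := fun x => AdjoinRoot.lift_of _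
  set r : KA p F (c ^ p) := AdjoinRoot.root _ with hr
  have hrp : r ^ p = algebraMap F _ (c ^ p) := by
    have := AdjoinRoot.eval₂_root (X ^ p - C (c ^ p) : F[X])
    rw [eval₂_sub, eval₂_pow, eval₂_X, eval₂_C, sub_eq_zero] at this
    exact this
  let ι : F →+* KA p F (c ^ p) := algebraMap F _
  -- `e` is a multiple of the idempotent
  let t : KA p F (c ^ p) := r * ι c⁻¹
  have ht : t ^ p = 1 := by
    rw [mul_pow, hrp, ← map_pow ι, ← map_mul, ← mul_pow, mul_inv_cancel₀ hc, one_pow, map_one]
  have hevt : ev t = 1 := by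
    rw [map_mul, hevr, hev, mul_inv_cancel₀ hc]
  let e : KA p F (c ^ p) := ι (p : F)⁻¹ * ∑ i ∈ Finset.range p, t ^ i
  have heve : ev e = 1 := by
    rw [map_mul, map_sum, hev]
    simp only [map_pow, hevt, one_pow, Finset.sum_const, Finset.card_range, nsmul_eq_mul, mul_one]
    exact inv_mul_cancel₀ hF
  have hte : t * e = e := by
    have h1 : (∑ i ∈ Finset.range p, t ^ i) * (t - 1) = 0 := by
      rw [geom_sum_mul, ht, sub_self]
    have h2 : t * e - e = ι (p : F)⁻¹ * ((∑ i ∈ Finset.range p, t ^ i) * (t - 1)) := by ring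
    rw [← sub_eq_zero, h2, h1, mul_zero]
  have hre : r * e = ι c * e := by
    have h1 : r = ι c * t := by
      rw [mul_comm, mul_assoc, ← map_mul, inv_mul_cancel₀ hc, map_one, mul_one]
    rw [h1, mul_assoc, hte]
  have hrn : ∀ n : ℕ, r ^ n * e = ι (c ^ n) * e := by
    intro n
    induction n with
    | zero => rw [pow_zero, pow_zero, map_one]
    | succ n ih => rw [pow_succ, mul_assoc, hre, ← mul_assoc, mul_comm (r ^ n), mul_assoc, ih,
        ← mul_assoc, ← map_mul, pow_succ, mul_comm c]
  have hkey : ∀ f : F[X], AdjoinRoot.mk (X ^ p - C (c ^ p)) f * e = ι (eval c f) * e := by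
    intro f
    induction f using Polynomial.induction_on' with
    | add f g hf hg => rw [map_add, add_mul, hf, hg, eval_add, map_add, add_mul]
    | monomial n s =>
      have h1 : AdjoinRoot.mk (X ^ p - C (c ^ p)) (monomial n s) = ι s * r ^ n := by
        rw [← C_mul_X_pow_eq_monomial, map_mul (AdjoinRoot.mk (X ^ p - C (c ^ p))),
          map_pow (AdjoinRoot.mk (X ^ p - C (c ^ p))) X n]
        rfl
      rw [h1, mul_assoc, hrn n, ← mul_assoc, ← map_mul, eval_monomial]
  have hze : ∀ z : KA p F (c ^ p), z * e = ev z • e := by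
    intro z
    induction z using AdjoinRoot.induction_on with
    | ih f =>
      have h1 : ev (AdjoinRoot.mk _ f) = eval c f := by
        rw [AdjoinRoot.lift_mk]; rfl
      rw [h1, Algebra.smul_def]
      exact hkey f
  let evl : KA p F (c ^ p) →ₗ[F] F :=
    { toFun := ev
      map_add' := map_add ev
      map_smul' := fun m x => by
        rw [Algebra.smul_def, map_mul, hev]
        rfl }
  refine ⟨1 + ι (a - 1) * e, ?_⟩
  rw [Algebra.norm_apply]
  have h3 : Algebra.lmul F (KA p F (c ^ p)) (1 + ι (a - 1) * e) =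
      LinearMap.transvection evl ((a - 1) • e) := by
    apply LinearMap.ext
    intro z
    rw [LinearMap.transvection.apply]
    change (1 + ι (a - 1) * e) * z = z + ev z • ((a - 1) • e)
    have h4 : (1 + ι (a - 1) * e) * z = z + ι (a - 1) * (z * e) := by ring
    rw [h4, hze z, Algebra.smul_def, Algebra.smul_def, Algebra.smul_def]
    ring
  rw [h3, LinearMap.transvection.det]
  change 1 + ev ((a - 1) • e) = a
  rw [Algebra.smul_def, map_mul, heve, hev]
  ring

end

end Groth.Agent.Etbc.H224.NormRel
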